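import Groth.Agent.ShriekFib.Main
import Groth.Agent.ShriekLib.Compose

/-!
Base change for the direct image with proper support.
-/

set_option autoImplicit false
set_option linter.unusedSectionVars false
set_option linter.style.haveILetI false
set_option backward.isDefEq.respectTransparency false
set_option backward.isDefEq.respectTransparency.types false
set_option maxHeartbeats 1000000

universe u

open CategoryTheory CategoryTheory.Limits AlgebraicGeometry Opposite

noncomputable section

namespace Groth.Agent.ShriekFib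

open EtPtsLib StrictLocLib

variable {X Y X' Y' : Scheme.{u}} (f : X ⟶ Y) (g : Y' ⟶ Y) (f' : X' ⟶ Y') (g' : X' ⟶ X) (h : IsPullback g' f' f g)

theorem kappa_naturality {V V₁ : Y.Etale} (φ : V₁ ⟶ V) :
    (EtCoh.bc f').map ((EtCoh.bc g).map φ) ≫ kappa f g f' g' h V =
      kappa f g f' g' h V₁ ≫ (EtCoh.bc g').map ((EtCoh.bc f).map φ) := by
  refine bc_bc_hom_ext f g' ?_
  show (((EtCoh.bc f').map ((EtCoh.bc g).map φ)).left ≫ (kappa f g f' g' h V).left) ≫ _ =
    ((kappa f g f' g' h V₁).left ≫ ((EtCoh.bc g').map ((EtCoh.bc f).map φ)).left) ≫ _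
  rw [Category.assoc, kappa_fst, Category.assoc, reassoc_of% (bcFst_map g' ((EtCoh.bc f).map φ)),
    bcFst_map f φ, reassoc_of% (kappa_fst f g f' g' h V₁), reassoc_of% (bcFst_map f' ((EtCoh.bc g).map φ)),
    bcFst_map g φ]

/-- The pullback square of base changes of a neighbourhood. -/
theorem isPullback_kappa (V : Y.Etale) :
    IsPullback ((kappa f g f' g' h V).left ≫ bcFst g' ((EtCoh.bc f).obj V)) (EtShriek.prV f' ((EtCoh.bc g).obj V))
      (EtShriek.prV f V) (bcFst g V) := by
  refine IsPullback.of_right (h₁₁ := (kappa f g f' g' h V).left ≫ bcFst g' ((EtCoh.bc f).obj V))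
    (h₁₂ := pullback.snd V.hom f) ?_ ((Category.assoc _ _ _).trans (kappa_fst f g f' g' h V))
    (IsPullback.of_hasPullback V.hom f).flip
  have e : ((kappa f g f' g' h V).left ≫ bcFst g' ((EtCoh.bc f).obj V)) ≫ pullback.snd V.hom f =
      pullback.snd ((EtCoh.bc g).obj V).hom f' ≫ g' := by
    have h1 : bcFst g' ((EtCoh.bc f).obj V) ≫ pullback.snd V.hom f =
        pullback.snd ((EtCoh.bc f).obj V).hom g' ≫ g' := pullback.condition
    rw [Category.assoc, h1, ← Category.assoc]
    exact congrArg (· ≫ g') (MorphismProperty.Over.w (kappa f g f' g' h V))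
  rw [e, show bcFst g V ≫ V.hom = ((EtCoh.bc g).obj V).hom ≫ g from pullback.condition]
  exact (IsPullback.of_hasPullback ((EtCoh.bc g).obj V).hom f').flip.paste_horiz h

variable [LocallyOfFiniteType f] [LocallyOfFiniteType f'] (F : EtCoh.Ab X)

/-- Pulling back sections with proper support. -/
def bcSect (V : Y.Etale) :
    EtShriek.shriekSubgroup f F V →+ EtShriek.shriekSubgroup f' ((EtCoh.pull g').obj F) ((EtCoh.bc g).obj V) :=
  ((((EtCoh.pull g').obj F).obj.map (kappa f g f' g' h V).op).hom.comp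
    ((((EtCoh.pullPushAdj g').unit.app F).hom.app (op ((EtCoh.bc f).obj V))).hom.comp
      (EtShriek.shriekSubgroup f F V).subtype)).codRestrict _ fun s => by
    haveI := ShriekLib.lft_prV f V
    rw [ShriekLib.mem_shriekSubgroup_iff]
    refine (congrArg (ClSub.IsProperOver _) ?_).mpr (ClSubLib.isProperOver_baseChange (EtShriek.prV f V) _ _ _
      (isPullback_kappa f g f' g' h V) ((ShriekLib.mem_shriekSubgroup_iff F f V s.1).1 s.2))
    refine (ShriekLib.sectSupp_map _ (kappa f g f' g' h V) _).trans ?_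
    refine (congrArg (Set.preimage _) (sectSupp_unit g' F ((EtCoh.bc f).obj V) s.1)).trans ?_
    rfl

/-- The base change morphism, transposed. -/
def bcTranspose : (ShriekLib.lShriek f).obj F ⟶ (EtCoh.push g).obj ((ShriekLib.lShriek f').obj ((EtCoh.pull g').obj F)) :=
  ObjectProperty.homMk
    { app := fun V => AddCommGrpCat.ofHom (bcSect f g f' g' h F V.unop)
      naturality := fun V V₁ φ => by
        refine ConcreteCategory.hom_ext _ _ fun s => Subtype.ext ?_
        show ((EtCoh.pull g').obj F).obj.map (kappa f g f' g' h V₁.unop).op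
            (((EtCoh.pullPushAdj g').unit.app F).hom.app _ (F.obj.map ((EtCoh.bc f).map φ.unop).op s.1)) =
          ((EtCoh.pull g').obj F).obj.map ((EtCoh.bc f').map ((EtCoh.bc g).map φ.unop)).op
            (((EtCoh.pull g').obj F).obj.map (kappa f g f' g' h V.unop).op (((EtCoh.pullPushAdj g').unit.app F).hom.app _ s.1))
        refine (congrArg (((EtCoh.pull g').obj F).obj.map (kappa f g f' g' h V₁.unop).op)
          (NatTrans.naturality_apply ((EtCoh.pullPushAdj g').unit.app F).hom ((EtCoh.bc f).map φ.unop).op s.1)).trans ?_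
        show ((EtCoh.pull g').obj F).obj.map _ (((EtCoh.pull g').obj F).obj.map ((EtCoh.bc g').map ((EtCoh.bc f).map φ.unop)).op _) = _
        rw [← Functor.map_comp_apply, ← Functor.map_comp_apply, ← op_comp, ← op_comp, kappa_naturality] }

/-- The base change morphism. -/
def bcShriek : (EtCoh.pull g).obj ((ShriekLib.lShriek f).obj F) ⟶ (ShriekLib.lShriek f').obj ((EtCoh.pull g').obj F) :=
  ((EtCoh.pullPushAdj g).homEquiv _ _).symm (bcTranspose f g f' g' h F)

theorem bcShriek_unit (V : Y.Etale) (s : EtShriek.shriekSubgroup f F V) :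
    (bcShriek f g f' g' h F).hom.app (op ((EtCoh.bc g).obj V))
      (((EtCoh.pullPushAdj g).unit.app ((ShriekLib.lShriek f).obj F)).hom.app (op V) s) =
    bcSect f g f' g' h F V s := by
  have h1 : (EtCoh.pullPushAdj g).unit.app ((ShriekLib.lShriek f).obj F) ≫
      (EtCoh.push g).map (bcShriek f g f' g' h F) = bcTranspose f g f' g' h F :=
    ((EtCoh.pullPushAdj g).homEquiv_unit _ _ _).symm.trans (Equiv.apply_symm_apply _ _)
  exact congr(($h1).hom.app (op V) s)

theorem stalk_bcShriek_bijective [IsSeparated f] {Ω : Type u} [Field Ω] [IsAlgClosed Ω]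
    (η : Spec (CommRingCat.of Ω) ⟶ Y') :
    Function.Bijective ((Scheme.pointSmallEtale η).presheafFiber.map (bcShriek f g f' g' h F).hom) := by
  haveI : IsSeparated f' := MorphismProperty.of_isPullback (P := @IsSeparated) h ‹_›
  let c' := pullback.fst f' η
  let d := pullback.snd f' η
  haveI : LocallyOfFiniteType d := MorphismProperty.pullback_snd _ _ ‹_›
  have sq' : IsPullback c' d f' η := IsPullback.of_hasPullback f' η
  have sq : IsPullback (c' ≫ g') d f (η ≫ g) := sq'.paste_horiz h
  let F' := (EtCoh.pull g').obj F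
  let L := (ShriekLib.lShriek f).obj F
  let A := transAdj (rfl : c' ≫ g' = c' ≫ g') F
  haveI : IsIso A := isIso_transAdj _ F
  let θ := adjTop (rfl : c' ≫ g' = c' ≫ g') F
  have hθ := bijective_adjTop (rfl : c' ≫ g' = c' ≫ g') F
  have hsup : ∀ x, EtShriek.sectSupp _ (EtCoh.top (pullback f' η)) (θ x) =
      EtShriek.sectSupp _ (EtCoh.top (pullback f' η)) x := fun x => sectSupp_app_iso A _ x
  let a := unitStalk g η L
  let b := (Scheme.pointSmallEtale η).presheafFiber.map (bcShriek f g f' g' h F).hom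
  have key : ∀ z, θ (phi f' c' d η sq' F' (b (a z))) = phi f (c' ≫ g') d (η ≫ g) sq F z := by
    intro z
    obtain ⟨V, l, s, rfl⟩ := (Scheme.pointSmallEtale (η ≫ g)).toPresheafFiber_jointly_surjective z
    have e1 : b (a ((Scheme.pointSmallEtale (η ≫ g)).toPresheafFiber V l (EtShriek.lowerShriekPre f F) s)) =
        (Scheme.pointSmallEtale η).toPresheafFiber ((EtCoh.bc g).obj V) (liftBc g η V l)
          (EtShriek.lowerShriekPre f' F') (bcSect f g f' g' h F V s) := by
      refine (congrArg b ((ConcreteCategory.comp_apply _ _ _).symm.trans (congrArg (fun m => (ConcreteCategory.hom m) s)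
        (toPresheafFiber_unitStalk g η L V l)))).trans ?_
      refine ((Scheme.pointSmallEtale η).toPresheafFiber_naturality_apply (bcShriek f g f' g' h F).hom _ _ _).trans ?_
      exact congrArg ((Scheme.pointSmallEtale η).toPresheafFiber ((EtCoh.bc g).obj V) (liftBc g η V l)
        (EtShriek.lowerShriekPre f' F')) (bcShriek_unit f g f' g' h F V s)
    refine (congrArg (fun w => θ (phi f' c' d η sq' F' w)) e1).trans ?_
    refine (congrArg θ (phi_germ f' c' d η sq' F' ((EtCoh.bc g).obj V) (liftBc g η V l) (bcSect f g f' g' h F V s))).trans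
      (Eq.trans ?_ (phi_germ f (c' ≫ g') d (η ≫ g) sq F V l s).symm)
    let m := toC f' c' d η sq'.w ((EtCoh.bc g).obj V) (liftBc g η V l)
    have wm : m ≫ ((EtCoh.bc f').obj ((EtCoh.bc g).obj V)).hom = c' := toC_w f' c' d η sq'.w _ _
    let y := ((EtCoh.pullPushAdj g').unit.app F).hom.app (op ((EtCoh.bc f).obj V)) s.1
    show θ (restrSec m wm F' (F'.obj.map (kappa f g f' g' h V).op y)) = _
    have wk : (m ≫ (kappa f g f' g' h V).left) ≫ ((EtCoh.bc g').obj ((EtCoh.bc f).obj V)).hom = c' :=
      (Category.assoc _ _ _).trans ((congrArg (m ≫ ·) (MorphismProperty.Over.w (kappa f g f' g' h V))).trans wm)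
    rw [show restrSec m wm F' (F'.obj.map (kappa f g f' g' h V).op y) =
        restrSec (m ≫ (kappa f g f' g' h V).left) wk F' y from
      (ConcreteCategory.comp_apply _ _ _).symm.trans (congrArg (fun k => (ConcreteCategory.hom k) y)
        (restrSec_map (kappa f g f' g' h V) m wm _ wk rfl F'))]
    refine (adjTop_unit (rfl : c' ≫ g' = c' ≫ g') F _ wk s.1).trans ?_
    refine congrArg (fun k : F.obj.obj (op ((EtCoh.bc f).obj V)) ⟶ _ => (ConcreteCategory.hom k) s.1)
      (restrSec_congr ?_ _ _ F)
    apply pullback.hom_ext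
    · refine Eq.trans ?_ (toC_fst f (c' ≫ g') d (η ≫ g) sq.w V l).symm
      show ((m ≫ (kappa f g f' g' h V).left) ≫ bcFst g' _) ≫ bcFst f V = _
      rw [Category.assoc, Category.assoc, kappa_fst, ← Category.assoc,
        show m ≫ bcFst f' ((EtCoh.bc g).obj V) = d ≫ liftHom η (liftBc g η V l) from toC_fst f' c' d η sq'.w _ _,
        Category.assoc, liftHom_liftBc_fst]
    · refine Eq.trans ?_ (toC_w f (c' ≫ g') d (η ≫ g) sq.w V l).symm
      show ((m ≫ (kappa f g f' g' h V).left) ≫ bcFst g' _) ≫ ((EtCoh.bc f).obj V).hom = _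
      rw [Category.assoc (m ≫ _), show bcFst g' ((EtCoh.bc f).obj V) ≫ ((EtCoh.bc f).obj V).hom =
        ((EtCoh.bc g').obj ((EtCoh.bc f).obj V)).hom ≫ g' from pullback.condition, ← Category.assoc, wk]
  obtain ⟨hai, has⟩ := bijective_unitStalk g η L
  refine ⟨fun x y e => ?_, fun y => ?_⟩
  · obtain ⟨x, rfl⟩ := has x
    obtain ⟨y, rfl⟩ := has y
    have h2 : phi f (c' ≫ g') d (η ≫ g) sq F x = phi f (c' ≫ g') d (η ≫ g) sq F y := by
      rw [← key, ← key]; exact congrArg (fun w => θ (phi f' c' d η sq' F' w)) e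
    rw [phi_injective f (c' ≫ g') d (η ≫ g) sq F h2]
  · have hy := range_phi_subset f' c' d η sq' F' y
    have hy2 : θ (phi f' c' d η sq' F' y) ∈ EtShriek.H0c d ((EtCoh.pull (c' ≫ g')).obj F) := by
      rw [ShriekLib.mem_H0c_iff] at hy ⊢
      exact (congrArg (ClSub.IsProperOver _) (hsup _)).mpr hy
    obtain ⟨V, l, s, hs⟩ := exists_extend f (c' ≫ g') d (η ≫ g) sq F _ hy2
    refine ⟨a ((Scheme.pointSmallEtale (η ≫ g)).toPresheafFiber V l (EtShriek.lowerShriekPre f F) s),
      phi_injective f' c' d η sq' F' (hθ.1 ?_)⟩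
    exact (key _).trans ((phi_germ f (c' ≫ g') d (η ≫ g) sq F V l s).trans hs)

/-- Base change for the direct image with proper support. -/
theorem isIso_bcShriek [IsSeparated f] : IsIso (bcShriek f g f' g' h F) :=
  isIso_of_alg_ab _ fun y => stalk_bcShriek_bijective f g f' g' h F (geomPtAlg y)

end Groth.Agent.ShriekFib
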