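import Groth.Agent.ShriekFib.Descend
import Groth.Agent.ChowLib.General

/-!
Stalks of direct images with proper support are compactly supported sections of the geometric fibre.
-/

set_option autoImplicit false
set_option linter.unusedSectionVars false
set_option linter.style.haveILetI false
set_option backward.isDefEq.respectTransparency false
set_option backward.isDefEq.respectTransparency.types false
set_option maxHeartbeats 1000000

universe u

open CategoryTheory CategoryTheory.Limits AlgebraicGeometry Opposite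

noncomputable section

namespace Groth.Agent.ShriekFib

open EtPtsLib StrictLocLib

variable {X Y Y₀ C : Scheme.{u}} {Ω : Type u} [Field Ω] [IsSepClosed Ω]

theorem isPullback_open {f : X ⟶ Y} {f₀ : X ⟶ Y₀} {ι : Y₀ ⟶ Y} [IsOpenImmersion ι] (hf : f₀ ≫ ι = f)
    {c : C ⟶ X} {d : C ⟶ Spec (CommRingCat.of Ω)} {η : Spec (CommRingCat.of Ω) ⟶ Y}
    {η₀ : Spec (CommRingCat.of Ω) ⟶ Y₀} (hη : η₀ ≫ ι = η) (sq : IsPullback c d f η) : IsPullback c d f₀ η₀ :=
  IsPullback.of_isLimit' ⟨(cancel_mono ι).1 (by rw [Category.assoc, Category.assoc, hf, hη]; exact sq.w)⟩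
    (PullbackCone.IsLimit.mk _
      (fun s => sq.lift s.fst s.snd (by rw [← hf, ← hη, reassoc_of% s.condition]))
      (fun s => sq.lift_fst _ _ _) (fun s => sq.lift_snd _ _ _)
      fun s m h₁ h₂ => sq.hom_ext (h₁.trans (sq.lift_fst _ _ _).symm) (h₂.trans (sq.lift_snd _ _ _).symm))

/-- Extension over an open of the base gives extension over the base. -/
theorem exists_extend_open (f₀ : X ⟶ Y₀) [LocallyOfFiniteType f₀] (ι : Y₀ ⟶ Y) [IsOpenImmersion ι] (f : X ⟶ Y)
    [LocallyOfFiniteType f] (hf : f₀ ≫ ι = f)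
    (c : C ⟶ X) (d : C ⟶ Spec (CommRingCat.of Ω)) (η : Spec (CommRingCat.of Ω) ⟶ Y)
    (η₀ : Spec (CommRingCat.of Ω) ⟶ Y₀) (hη : η₀ ≫ ι = η) (sq : IsPullback c d f η) (F : EtCoh.Ab X)
    (V₀ : Y₀.Etale) (l₀ : (Scheme.pointSmallEtale η₀).fiber.obj V₀) (s₀ : EtShriek.shriekSubgroup f₀ F V₀) :
    ∃ (V : Y.Etale) (l : (Scheme.pointSmallEtale η).fiber.obj V) (s : EtShriek.shriekSubgroup f F V),
      restrSec (toC f c d η sq.w V l) (toC_w f c d η sq.w V l) F s.1 =
        restrSec (toC f₀ c d η₀ (isPullback_open hf hη sq).w V₀ l₀) (toC_w f₀ c d η₀ (isPullback_open hf hη sq).w V₀ l₀)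
          F s₀.1 := by
  haveI : AlgebraicGeometry.Etale V₀.hom := V₀.prop
  haveI : AlgebraicGeometry.Etale (V₀.hom ≫ ι) := inferInstance
  let V : Y.Etale := Scheme.Etale.mk (V₀.hom ≫ ι)
  let l : (Scheme.pointSmallEtale η).fiber.obj V := Over.homMk (liftHom η₀ l₀) (by
    show liftHom η₀ l₀ ≫ V₀.hom ≫ ι = η
    rw [← Category.assoc, liftHom_comp, hη])
  have hw : pullback.fst V.hom f ≫ V₀.hom = pullback.snd V.hom f ≫ f₀ := by
    rw [← cancel_mono ι, Category.assoc, Category.assoc, hf]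
    exact pullback.condition
  let κ : (EtCoh.bc f).obj V ⟶ (EtCoh.bc f₀).obj V₀ :=
    MorphismProperty.Over.homMk (pullback.lift (pullback.fst V.hom f) (pullback.snd V.hom f) hw) (pullback.lift_snd _ _ _)
  haveI : IsIso κ.left := by
    refine ⟨pullback.lift (pullback.fst V₀.hom f₀) (pullback.snd V₀.hom f₀) ?_, ?_, ?_⟩
    · show pullback.fst V₀.hom f₀ ≫ V₀.hom ≫ ι = _
      rw [← hf, ← Category.assoc, pullback.condition, Category.assoc]
    · apply pullback.hom_ext <;> simp [κ]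
    · apply pullback.hom_ext <;> simp [κ]
  haveI := ShriekLib.lft_prV f V
  haveI := ShriekLib.lft_prV f₀ V₀
  have hκ : κ.left ≫ EtShriek.prV f₀ V₀ = EtShriek.prV f V := pullback.lift_fst _ _ _
  have hs : F.obj.map κ.op s₀.1 ∈ EtShriek.shriekSubgroup f F V := by
    rw [ShriekLib.mem_shriekSubgroup_iff, ShriekLib.sectSupp_map]
    exact ClSubLib.isProperOver_preimage _ _ κ.left hκ ((ShriekLib.mem_shriekSubgroup_iff F f₀ V₀ s₀.1).1 s₀.2)
  refine ⟨V, l, ⟨_, hs⟩, ?_⟩
  refine (ConcreteCategory.comp_apply _ _ _).symm.trans (congrArg (fun k => (ConcreteCategory.hom k) s₀.1)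
    (restrSec_map κ _ (toC_w f c d η sq.w V l) _ (toC_w f₀ c d η₀ (isPullback_open hf hη sq).w V₀ l₀) ?_ F))
  apply pullback.hom_ext
  · rw [Category.assoc, toC_fst]
    exact (congrArg (toC f c d η sq.w V l ≫ ·) (pullback.lift_fst _ _ _)).trans (toC_fst f c d η sq.w V l)
  · refine (Category.assoc _ _ _).trans ((congrArg (_ ≫ ·) (pullback.lift_snd _ _ _)).trans ?_)
    exact (toC_w f c d η sq.w V l).trans (toC_w f₀ c d η₀ (isPullback_open hf hη sq).w V₀ l₀).symm

/-- Compactly supported sections of a geometric fibre extend to sections with proper support. -/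
theorem exists_extend (f : X ⟶ Y) [IsSeparated f] [LocallyOfFiniteType f] (c : C ⟶ X)
    (d : C ⟶ Spec (CommRingCat.of Ω)) (η : Spec (CommRingCat.of Ω) ⟶ Y) (sq : IsPullback c d f η) (F : EtCoh.Ab X)
    [LocallyOfFiniteType d]
    (t : EtCoh.sect ((EtCoh.pull c).obj F) (EtCoh.top C)) (ht : t ∈ EtShriek.H0c d ((EtCoh.pull c).obj F)) :
    ∃ (V : Y.Etale) (l : (Scheme.pointSmallEtale η).fiber.obj V) (s : EtShriek.shriekSubgroup f F V),
      restrSec (toC f c d η sq.w V l) (toC_w f c d η sq.w V l) F s.1 = t := by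
  classical
  obtain ⟨Y₀, hY₀, hηY, -⟩ := exists_isAffineOpen_mem_and_subset (x := η default) (U := (⊤ : Y.Opens)) trivial
  haveI : IsAffine Y₀.toScheme := hY₀
  let K := EtShriek.sectSupp ((EtCoh.pull c).obj F) (EtCoh.top C) t
  have hKp : ClSub.IsProperOver (d : (EtCoh.top C).left ⟶ _) K := (ShriekLib.mem_H0c_iff d _ t).1 ht
  obtain ⟨T, i, hi, -, hr, hip⟩ := ClSubLib.exists_model _ hKp
  haveI := hi
  haveI : CompactSpace T := by
    haveI := hip
    exact QuasiCompact.compactSpace_of_compactSpace (i ≫ (d : (EtCoh.top C).left ⟶ _))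
  have hKc : IsCompact (c '' K) := by
    have h1 : IsCompact K := by
      rw [show K = Set.range i from hr.symm]
      exact isCompact_range i.continuous
    exact h1.image c.continuous
  have hfib : ∀ z : C, f (c z) = η default := fun z => by
    rw [← Scheme.Hom.comp_apply, sq.w, Scheme.Hom.comp_apply]
    exact congrArg η (Subsingleton.elim (α := PrimeSpectrum Ω) _ _)
  choose W hW hxW hWsub using fun x : {x : X // f x ∈ Y₀} =>
    exists_isAffineOpen_mem_and_subset (x := x.1) (U := f ⁻¹ᵁ Y₀) x.2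
  obtain ⟨σ, hσ⟩ := hKc.elim_finite_subcover (fun x => (W x : Set X)) (fun x => (W x).2) (by
    rintro _ ⟨z, -, rfl⟩
    exact Set.mem_iUnion.2 ⟨⟨c z, (hfib z).symm ▸ hηY⟩, hxW _⟩)
  let X₀ : X.Opens := ⨆ x ∈ σ, W x
  have hX₀ : (X₀ : Set X) = ⋃ x ∈ σ, (W x : Set X) := by simp [X₀]
  have hle : X₀ ≤ f ⁻¹ᵁ Y₀ := iSup₂_le fun x _ => hWsub x
  haveI : CompactSpace X₀.toScheme := isCompact_iff_compactSpace.1
    (hX₀ ▸ σ.isCompact_biUnion fun x _ => (hW x).isCompact)
  let f₀ : X₀.toScheme ⟶ Y₀.toScheme := IsOpenImmersion.lift Y₀.ι (X₀.ι ≫ f) (by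
    rw [Scheme.Opens.range_ι]
    rintro _ ⟨y, rfl⟩
    rw [Scheme.Hom.comp_apply]
    exact hle y.2)
  have hf₀ : f₀ ≫ Y₀.ι = X₀.ι ≫ f := IsOpenImmersion.lift_fac _ _ _
  haveI : IsSeparated (f₀ ≫ Y₀.ι) := by rw [hf₀]; infer_instance
  haveI : IsSeparated f₀ := IsSeparated.of_comp f₀ Y₀.ι
  haveI : LocallyOfFiniteType (f₀ ≫ Y₀.ι) := by rw [hf₀]; infer_instance
  haveI : LocallyOfFiniteType f₀ := locallyOfFiniteType_of_comp f₀ Y₀.ι
  haveI : QuasiCompact f₀ := quasiCompact_of_compactSpace f₀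
  obtain ⟨N, X'', π, j, hj, hjf, hπ, hπs⟩ := ChowLib.exists_chow_general f₀
  haveI := hj
  haveI := hπ
  haveI := hπs
  haveI : IsProper (CohB1.ProjSpaceOver.toBase N Y₀.toScheme) :=
    (ProjBundleLib.isProper_of_isProjective (ProjBundleLib.isProjective_of_isHProjective
      (f := CohB1.ProjSpaceOver.toBase N Y₀.toScheme) ⟨N, 𝟙 _, inferInstance, Category.id_comp _⟩)).1
  haveI : QuasiCompact j := by
    haveI : QuasiCompact (j ≫ CohB1.ProjSpaceOver.toBase N Y₀.toScheme) := by rw [hjf]; infer_instance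
    exact QuasiCompact.of_comp j (CohB1.ProjSpaceOver.toBase N Y₀.toScheme)
  haveI : IsOpenImmersion j.toImage := inferInstance
  let fb := j.imageι ≫ CohB1.ProjSpaceOver.toBase N Y₀.toScheme
  let q := π ≫ X₀.ι
  let g₀ : X'' ⟶ Y₀.toScheme := π ≫ f₀
  have hg₀ : g₀ ≫ Y₀.ι = q ≫ f := by simp only [g₀, q, Category.assoc, hf₀]
  have hfb : j.toImage ≫ fb = g₀ := by simp only [fb, g₀, Scheme.Hom.toImage_imageι_assoc, hjf]
  haveI : LocallyOfFiniteType (q ≫ f) := by rw [← hg₀]; infer_instance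
  let η₀ : Spec (CommRingCat.of Ω) ⟶ Y₀.toScheme := IsOpenImmersion.lift Y₀.ι η (by
    rw [Scheme.Opens.range_ι]
    rintro _ ⟨z, rfl⟩
    show η z ∈ Y₀
    rw [show z = default from Subsingleton.elim (α := PrimeSpectrum Ω) _ _]; exact hηY)
  have hη₀ : η₀ ≫ Y₀.ι = η := IsOpenImmersion.lift_fac _ _ _
  haveI : LocallyOfFiniteType (pullback.fst c q ≫ d) :=
    MorphismProperty.of_isPullback (P := @LocallyOfFiniteType) (isPullback_comp sq q) ‹_›
  refine exists_extend_of_cover π X₀.ι q rfl f c d η sq F (fun t'' ht'' => ?_) t ht ?_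
  · obtain ⟨V₀, l₀, s₀, h₀⟩ := exists_extend_compact j.toImage fb g₀ hfb (pullback.snd c q) (pullback.fst c q ≫ d) η₀
      (isPullback_open hg₀ hη₀ (isPullback_comp sq q)) ((EtCoh.pull q).obj F) t'' ht''
    obtain ⟨V, l, s, hs⟩ := exists_extend_open g₀ Y₀.ι (q ≫ f) hg₀ (pullback.snd c q) (pullback.fst c q ≫ d) η η₀ hη₀
      (isPullback_comp sq q) ((EtCoh.pull q).obj F) V₀ l₀ s₀
    exact ⟨V, l, s, hs.trans h₀⟩
  · intro z hz
    show c z ∈ Set.range X₀.ι
    rw [Scheme.Opens.range_ι, hX₀]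
    exact hσ ⟨z, hz, rfl⟩

end Groth.Agent.ShriekFib
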