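import Groth.Agent.ShriekFib.ToPush

/-!
Compatibility of `f_! g_! = (f g)_!` with the inclusions into direct images.
-/

set_option autoImplicit false
set_option linter.unusedSectionVars false
set_option linter.style.haveILetI false
set_option backward.isDefEq.respectTransparency false
set_option backward.isDefEq.respectTransparency.types false

universe u

open CategoryTheory CategoryTheory.Limits AlgebraicGeometry Opposite

noncomputable section

namespace Groth.Agent.ShriekFib

theorem mono_toPush {A B : Scheme.{u}} (f : A ⟶ B) [LocallyOfFiniteType f] (F : EtCoh.Ab A) :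
    Mono (EtShriek.lowerShriekToPush f F) := by
  haveI := ShriekLib.mono_lShriekι f F
  have h : EtShriek.lowerShriekToPush f F = (ShriekLib.lShriekIso f).inv.app F ≫ (ShriekLib.lShriekι f).app F := by
    rw [← lShriekIso_toPush f F, Iso.inv_hom_id_app_assoc]
  rw [h]
  infer_instance

variable {X Y Z : Scheme.{u}} (h : X ⟶ Y) (g : Y ⟶ Z) [LocallyOfFiniteType h] [IsSeparated g]
  [LocallyOfFiniteType g] (F : EtCoh.Ab X)

theorem pre_comp2_toPush :
    (EtShriek.lowerShriekPreFunctor g).map ((ShriekLib.lShriekι h).app F) ≫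
        EtShriek.lowerShriekPreι g ((EtCoh.push h).obj F) =
      (ShriekLib.shriekPreComp2 h g).hom.app F ≫ EtShriek.lowerShriekPreι (h ≫ g) F ≫
        ((EtCoh.pushComp g h).inv.app F).hom := by
  ext V s
  show s.1.1 = F.obj.map ((ShriekLib.bcComp2 h g).inv.app V.unop).op
    (F.obj.map ((ShriekLib.bcComp2 h g).hom.app V.unop).op s.1.1)
  rw [← ConcreteCategory.comp_apply, ← Functor.map_comp, ← op_comp, Iso.inv_hom_id_app, op_id,
    CategoryTheory.Functor.map_id]
  rfl

theorem comp2_toPush :
    (ShriekLib.lowerShriekComp2Iso h g).hom.app F ≫ EtShriek.lowerShriekToPush (h ≫ g) F ≫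
        (EtCoh.pushComp g h).inv.app F =
      (EtShriek.lowerShriek g).map (EtShriek.lowerShriekToPush h F) ≫
        EtShriek.lowerShriekToPush g ((EtCoh.push h).obj F) := by
  rw [show EtShriek.lowerShriekToPush h F =
      (ShriekLib.lShriekIso h).inv.app F ≫ (ShriekLib.lShriekι h).app F by
    rw [← lShriekIso_toPush h F, Iso.inv_hom_id_app_assoc], Functor.map_comp, Category.assoc]
  show ((EtShriek.lowerShriek g).map ((ShriekLib.lShriekIso h).inv.app F) ≫ 𝟙 _ ≫
    (presheafToSheaf _ _).map ((ShriekLib.shriekPreComp2 h g).hom.app F)) ≫ _ = _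
  rw [Category.id_comp, Category.assoc]
  congr 1
  show (presheafToSheaf _ _).map _ ≫ _ = (presheafToSheaf _ _).map _ ≫ _
  apply ((sheafificationAdjunction Z.smallEtaleTopology AddCommGrpCat.{u + 1}).homEquiv _ _).injective
  rw [Adjunction.homEquiv_naturality_left, Adjunction.homEquiv_naturality_left,
    Adjunction.homEquiv_naturality_right]
  refine Eq.trans ?_ ((pre_comp2_toPush h g F).symm.trans ?_)
  · exact congrArg (fun m => (ShriekLib.shriekPreComp2 h g).hom.app F ≫ m ≫
      ((EtCoh.pushComp g h).inv.app F).hom) (Equiv.apply_symm_apply _ _)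
  · exact congrArg (fun m => (EtShriek.lowerShriekPreFunctor g).map ((ShriekLib.lShriekι h).app F) ≫ m)
      (Equiv.apply_symm_apply _ _).symm

end Groth.Agent.ShriekFib
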