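import Groth.Agent.ShriekFib.BaseChange
import Groth.Agent.ShriekLib.Proper

/-!
Compatibility of the base change of `f_!` with the base change of `f_*`.
-/

set_option autoImplicit false
set_option linter.unusedSectionVars false
set_option linter.style.haveILetI false
set_option backward.isDefEq.respectTransparency false
set_option backward.isDefEq.respectTransparency.types false

universe u

open CategoryTheory CategoryTheory.Limits AlgebraicGeometry Opposite

noncomputable section

namespace Groth.Agent.ShriekFib

open EtPtsLib StrictLocLib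

theorem lShriekIso_toPush {A B : Scheme.{u}} (f : A ⟶ B) [LocallyOfFiniteType f] (F : EtCoh.Ab A) :
    (ShriekLib.lShriekIso f).hom.app F ≫ EtShriek.lowerShriekToPush f F = (ShriekLib.lShriekι f).app F := by
  apply Sheaf.hom_ext
  show ((ShriekLib.lShriekIso f).hom.app F).hom ≫ (EtShriek.lowerShriekToPush f F).hom = EtShriek.lowerShriekPreι f F
  have e : ((ShriekLib.lShriekIso f).hom.app F).hom =
      CategoryTheory.toSheafify B.smallEtaleTopology (EtShriek.lowerShriekPre f F) := by
    simp [ShriekLib.lShriekIso, ShriekLib.lowerShriekForgetIso, Functor.FullyFaithful.whiskeringRight]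
    rfl
  rw [e]
  exact CategoryTheory.toSheafify_sheafifyLift B.smallEtaleTopology _ _

variable {X Y X' Y' : Scheme.{u}} (f : X ⟶ Y) (g : Y' ⟶ Y) (f' : X' ⟶ Y') (g' : X' ⟶ X) (h : IsPullback g' f' f g)
  [LocallyOfFiniteType f] [LocallyOfFiniteType f'] (F : EtCoh.Ab X)

theorem bcShriek_toPush :
    bcShriek f g f' g' h F ≫ (ShriekLib.lShriekι f').app ((EtCoh.pull g').obj F) =
      (EtCoh.pull g).map ((ShriekLib.lShriekι f).app F) ≫ EtCoh.baseChange0 f g f' g' h.w F := by
  apply ((EtCoh.pullPushAdj g).homEquiv _ _).injective
  rw [Adjunction.homEquiv_naturality_left, Adjunction.homEquiv_naturality_right]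
  rw [show (EtCoh.pullPushAdj g).homEquiv _ _ (bcShriek f g f' g' h F) = bcTranspose f g f' g' h F from
    Equiv.apply_symm_apply _ _]
  apply Sheaf.hom_ext
  ext V s
  have hb := isBC_ab f g f' g' h F V.unop
  exact (congr($hb s.1)).symm

end Groth.Agent.ShriekFib
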