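import Groth.Agent.ShriekFib.Natural
import Groth.Agent.CohColim.EtSections
/-!
Compactly supported sections commute with filtered colimits.
-/

set_option autoImplicit false
set_option linter.unusedSectionVars false
set_option linter.style.haveILetI false
set_option backward.isDefEq.respectTransparency false
set_option backward.isDefEq.respectTransparency.types false

universe u

open CategoryTheory CategoryTheory.Limits AlgebraicGeometry Opposite TopologicalSpace

noncomputable section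

namespace Groth.Agent.ShriekFib

open EtPtsLib StrictLocLib

variable {Z : Scheme.{u}}

theorem exists_compact_open (K : Set Z) (hK : IsCompact K) : ∃ W : Z.Opens, IsCompact (W : Set Z) ∧ K ⊆ W := by
  choose W hW hxW _h using fun x : Z => exists_isAffineOpen_mem_and_subset (x := x) (U := (⊤ : Z.Opens)) trivial
  obtain ⟨σ, hσ⟩ := hK.elim_finite_subcover (fun x => (W x : Set Z)) (fun x => (W x).2)
    fun x _ => Set.mem_iUnion.2 ⟨x, hxW x⟩
  have h : ((⨆ x ∈ σ, W x : Z.Opens) : Set Z) = ⋃ x ∈ σ, (W x : Set Z) := by simp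
  exact ⟨_, h ▸ σ.isCompact_biUnion fun x _ => (hW x).isCompact, h ▸ hσ⟩

/-- Restriction to an open containing a closed set is bijective on sections supported there. -/
theorem bijOn_openIncl (F : EtCoh.Ab Z) (W : Z.Opens) (K : Set Z) (hK : IsClosed K) (hKW : K ⊆ W) :
    Set.BijOn (F.obj.map (openIncl (EtCoh.top Z) W).op)
      {s | EtShriek.sectSupp F (EtCoh.top Z) s ⊆ K}
      {s' | EtShriek.sectSupp F (openSub (EtCoh.top Z) W) s' ⊆ W.ι ⁻¹' K} :=
  ShriekLib.restrict_bijOn F (openIncl (EtCoh.top Z) W) K hK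
    ⟨fun _ h => h, W.ι.isOpenEmbedding.injective.injOn, fun x hx => ⟨⟨x, hKW hx⟩, hx, rfl⟩⟩
    fun x _ => by
      haveI : IsOpenImmersion (openIncl (EtCoh.top Z) W).left := inferInstanceAs (IsOpenImmersion W.ι)
      exact ConcreteCategory.bijective_of_isIso _

variable {k : Type u} [Field k] (p : Z ⟶ Spec (CommRingCat.of k)) [LocallyOfFiniteType p] [IsSeparated p]

include p in
theorem qcqs_openSub (W : Z.Opens) (hW : IsCompact (W : Set Z)) :
    CompactSpace (openSub (EtCoh.top Z) W).left ∧ QuasiSeparatedSpace (openSub (EtCoh.top Z) W).left := by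
  haveI : CompactSpace W.toScheme := isCompact_iff_compactSpace.1 hW
  haveI : QuasiSeparatedSpace Z := quasiSeparatedSpace_of_quasiSeparated p
  exact ⟨‹_›, W.ι.isOpenEmbedding.quasiSeparatedSpace⟩

theorem isCompact_supp {F : EtCoh.Ab Z} {s : EtCoh.sect F (EtCoh.top Z)} (h : s ∈ EtShriek.H0c p F) :
    IsCompact (EtShriek.sectSupp F (EtCoh.top Z) s : Set Z) := by
  obtain ⟨T, i, hi, -, hr, hip⟩ := ClSubLib.exists_model _ ((ShriekLib.mem_H0c_iff p F s).1 h)
  haveI := hi
  haveI : CompactSpace T := by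
    haveI := hip
    exact QuasiCompact.compactSpace_of_compactSpace (i ≫ (p : (EtCoh.top Z).left ⟶ _))
  rw [← hr]
  exact isCompact_range i.continuous

variable {Λ : Type (u + 1)} [SmallCategory Λ] [IsFiltered Λ] (K : Λ ⥤ EtCoh.Ab Z) {c : Cocone K} (hc : IsColimit c)

include p hc in
theorem eq_zero_eventually {i : Λ} (s : EtCoh.sect (K.obj i) (EtCoh.top Z)) (hs : s ∈ EtShriek.H0c p (K.obj i))
    (h : (c.ι.app i).hom.app (op (EtCoh.top Z)) s = 0) :
    ∃ (j : Λ) (f : i ⟶ j), (K.map f).hom.app (op (EtCoh.top Z)) s = 0 := by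
  obtain ⟨W, hW, hSW⟩ := exists_compact_open _ (isCompact_supp p hs)
  obtain ⟨_, _⟩ := qcqs_openSub p W hW
  haveI := CohColim.preserves_sectionsAb Z Λ (openSub (EtCoh.top Z) W)
  have hW' := isColimitOfPreserves (forget AddCommGrpCat.{u + 1})
    (isColimitOfPreserves (sheafToPresheaf Z.smallEtaleTopology AddCommGrpCat.{u + 1} ⋙
      (evaluation Z.Etaleᵒᵖ AddCommGrpCat.{u + 1}).obj (op (openSub (EtCoh.top Z) W))) hc)
  let φ := openIncl (EtCoh.top Z) W
  obtain ⟨j, f, hf⟩ := (Types.FilteredColimit.isColimit_eq_iff' hW'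
    ((K.obj i).obj.map φ.op s) (0 : EtCoh.sect (K.obj i) (openSub (EtCoh.top Z) W))).1
    ((NatTrans.naturality_apply (c.ι.app i).hom φ.op s).trans
      ((congrArg (c.pt.obj.map φ.op) h).trans
        ((map_zero _).trans (map_zero ((c.ι.app i).hom.app (op (openSub (EtCoh.top Z) W))).hom).symm)))
  refine ⟨j, f, (bijOn_openIncl (K.obj j) W _ (isClosed_sectSupp (K.obj i) _ s) hSW).injOn
    (EtShriek.sectSupp_map_subset _ _ _) ?_ ?_⟩
  · exact (ShriekLib.sectSupp_zero _ _).subset.trans (Set.empty_subset _)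
  · refine (NatTrans.naturality_apply (K.map f).hom φ.op s).symm.trans ?_
    exact hf.trans ((map_zero ((K.map f).hom.app (op (openSub (EtCoh.top Z) W))).hom).trans (map_zero _).symm)

include p hc in
theorem exists_rep (t : EtCoh.sect c.pt (EtCoh.top Z)) (ht : t ∈ EtShriek.H0c p c.pt) :
    ∃ (j : Λ) (x : EtCoh.sect (K.obj j) (EtCoh.top Z)), x ∈ EtShriek.H0c p (K.obj j) ∧
      (c.ι.app j).hom.app (op (EtCoh.top Z)) x = t := by
  let S : Set Z := EtShriek.sectSupp c.pt (EtCoh.top Z) t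
  have hS : IsClosed S := isClosed_sectSupp c.pt _ t
  obtain ⟨W, hW, hSW⟩ := exists_compact_open S (isCompact_supp p ht)
  haveI : IsLocallyNoetherian Z := LocallyOfFiniteType.isLocallyNoetherian p
  let W' : Z.Opens := W ⊓ ⟨Sᶜ, hS.isOpen_compl⟩
  have hW' : IsCompact (W' : Set Z) := by
    haveI : CompactSpace W.toScheme := isCompact_iff_compactSpace.1 hW
    haveI : IsNoetherian W.toScheme := {}
    rw [show (W' : Set Z) = W.ι '' (W.ι ⁻¹' (W' : Set Z)) from by
      rw [Set.image_preimage_eq_inter_range, Scheme.Opens.range_ι]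
      exact (Set.inter_eq_left.2 fun x hx => hx.1).symm]
    exact (NoetherianSpace.isCompact _).image W.ι.continuous
  obtain ⟨_, _⟩ := qcqs_openSub p W hW
  obtain ⟨_, _⟩ := qcqs_openSub p W' hW'
  haveI := CohColim.preserves_sectionsAb Z Λ (openSub (EtCoh.top Z) W)
  haveI := CohColim.preserves_sectionsAb Z Λ (openSub (EtCoh.top Z) W')
  have hcW := isColimitOfPreserves (forget AddCommGrpCat.{u + 1})
    (isColimitOfPreserves (sheafToPresheaf Z.smallEtaleTopology AddCommGrpCat.{u + 1} ⋙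
      (evaluation Z.Etaleᵒᵖ AddCommGrpCat.{u + 1}).obj (op (openSub (EtCoh.top Z) W))) hc)
  have hcW' := isColimitOfPreserves (forget AddCommGrpCat.{u + 1})
    (isColimitOfPreserves (sheafToPresheaf Z.smallEtaleTopology AddCommGrpCat.{u + 1} ⋙
      (evaluation Z.Etaleᵒᵖ AddCommGrpCat.{u + 1}).obj (op (openSub (EtCoh.top Z) W'))) hc)
  let φ := openIncl (EtCoh.top Z) W
  let ψ : openSub (EtCoh.top Z) W' ⟶ openSub (EtCoh.top Z) W :=
    MorphismProperty.Over.homMk (Z.homOfLE inf_le_left) (by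
      show Z.homOfLE inf_le_left ≫ W.ι ≫ 𝟙 Z = W'.ι ≫ 𝟙 Z
      simp [W'])
  obtain ⟨i, y, hy⟩ := Types.jointly_surjective_of_isColimit hcW (c.pt.obj.map φ.op t)
  have hy' : (c.ι.app i).hom.app (op (openSub (EtCoh.top Z) W)) y = c.pt.obj.map φ.op t := hy
  have h0 : c.pt.obj.map ψ.op (c.pt.obj.map φ.op t) = 0 := by
    rw [← Functor.map_comp_apply, ← op_comp]
    refine map_eq_zero (ψ ≫ φ) fun v hv => ?_
    have hv' : W'.ι v ∈ S := by
      have e : (ψ ≫ φ).left = W'.ι := Z.homOfLE_ι inf_le_left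
      rwa [e] at hv
    exact v.2.2 hv'
  obtain ⟨j, f, hf⟩ := (Types.FilteredColimit.isColimit_eq_iff' hcW'
    ((K.obj i).obj.map ψ.op y) (0 : EtCoh.sect (K.obj i) (openSub (EtCoh.top Z) W'))).1
    ((NatTrans.naturality_apply (c.ι.app i).hom ψ.op y).trans
      ((congrArg (c.pt.obj.map ψ.op) hy').trans
        (h0.trans (map_zero ((c.ι.app i).hom.app (op (openSub (EtCoh.top Z) W'))).hom).symm)))
  let y' : EtCoh.sect (K.obj j) (openSub (EtCoh.top Z) W) := (K.map f).hom.app _ y
  have hy0 : (K.obj j).obj.map ψ.op y' = 0 :=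
    (NatTrans.naturality_apply (K.map f).hom ψ.op y).symm.trans (hf.trans (map_zero ((K.map f).hom.app (op (openSub (EtCoh.top Z) W'))).hom))
  have hsupp : EtShriek.sectSupp (K.obj j) (openSub (EtCoh.top Z) W) y' ⊆ W.ι ⁻¹' S := fun v hv => by
    by_contra hn
    have hv' : W.ι v ∈ W' := ⟨v.2, hn⟩
    have e : ψ.left (⟨W.ι v, hv'⟩ : W'.toScheme) = v := W.ι.isOpenEmbedding.injective (by
      refine (Scheme.Hom.comp_apply ψ.left W.ι _).symm.trans ?_
      exact congrArg (fun q => q (⟨W.ι v, hv'⟩ : W'.toScheme)) (Z.homOfLE_ι inf_le_left))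
    rw [← e, ← mem_sectSupp_map_iff, hy0, ShriekLib.sectSupp_zero] at hv
    exact hv
  obtain ⟨x, hxS, hx⟩ := (bijOn_openIncl (K.obj j) W S hS hSW).surjOn hsupp
  refine ⟨j, x, ?_, (bijOn_openIncl c.pt W S hS hSW).injOn
    ((EtShriek.sectSupp_map_subset _ _ _).trans hxS) (Set.Subset.refl S) ?_⟩
  · rw [ShriekLib.mem_H0c_iff] at ht ⊢
    exact ClSubLib.isProperOver_subset _ ht (isClosed_sectSupp _ _ _) hxS
  · refine (NatTrans.naturality_apply (c.ι.app j).hom φ.op x).symm.trans ?_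
    refine (congrArg ((c.ι.app j).hom.app _) hx).trans ?_
    refine Eq.trans ?_ hy'
    exact (ConcreteCategory.comp_apply _ _ _).symm.trans
      (congrArg (fun m => (ConcreteCategory.hom (m.hom.app (op (openSub (EtCoh.top Z) W)))) y) (c.w f))

variable (Λ)

/-- Compactly supported sections commute with filtered colimits. -/
theorem preservesColimitsOfShape_H0cF : PreservesColimitsOfShape Λ (H0cF p) := by
  haveI : ReflectsColimitsOfShape Λ (forget AddCommGrpCat.{u + 1}) :=
    reflectsColimitsOfShape_of_reflectsIsomorphisms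
  refine ⟨fun {K} => ⟨fun {c} hc => ⟨isColimitOfReflects (forget AddCommGrpCat.{u + 1}) ?_⟩⟩⟩
  refine Types.FilteredColimit.isColimitOf' _ _ (fun t => ?_) (fun i x y h => ?_)
  · obtain ⟨j, x, hx, e⟩ := exists_rep p K hc t.1 t.2
    exact ⟨j, ⟨x, hx⟩, Subtype.ext e.symm⟩
  · obtain ⟨j, f, e⟩ := eq_zero_eventually p K hc (x.1 - y.1) (sub_mem x.2 y.2)
      ((map_sub _ _ _).trans (sub_eq_zero.2 (congrArg Subtype.val h)))
    exact ⟨j, f, Subtype.ext (sub_eq_zero.1 ((map_sub _ _ _).symm.trans e))⟩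

end Groth.Agent.ShriekFib
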