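import Groth.Agent.ShriekLib.Basic
/-!
Direct image with proper support is left exact.
-/

set_option autoImplicit false
set_option backward.isDefEq.respectTransparency false
set_option backward.isDefEq.respectTransparency.types false

universe u

open CategoryTheory CategoryTheory.Limits AlgebraicGeometry Opposite

noncomputable section

namespace Groth.Agent.ShriekFib

variable {X Y : Scheme.{u}}

theorem mono_app {F G : EtCoh.Ab X} (α : F ⟶ G) [Mono α] (U : X.Etale) :
    Function.Injective (α.hom.app (op U)) := by
  haveI : PreservesFiniteLimits (sheafToPresheaf X.smallEtaleTopology AddCommGrpCat.{u + 1} ⋙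
      (evaluation X.Etaleᵒᵖ AddCommGrpCat.{u + 1}).obj (op U)) := comp_preservesFiniteLimits _ _
  exact (AddCommGrpCat.mono_iff_injective _).1 (inferInstance : Mono ((sheafToPresheaf _ _ ⋙
    (evaluation X.Etaleᵒᵖ AddCommGrpCat.{u + 1}).obj (op U)).map α))

/-- Monomorphisms preserve supports. -/
theorem sectSupp_app_mono {F G : EtCoh.Ab X} (α : F ⟶ G) [Mono α] (U : X.Etale) (s : EtCoh.sect F U) :
    EtShriek.sectSupp G U (α.hom.app (op U) s) = EtShriek.sectSupp F U s := by
  refine (EtShriek.sectSupp_map_subset α U s).antisymm fun x hx W g hw h => hx W g hw ?_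
  refine mono_app α W ((NatTrans.naturality_apply α.hom g.op s).trans (h.trans (map_zero _).symm))

variable (f : X ⟶ Y)

instance : (EtShriek.lowerShriekPreFunctor f).Additive where
  map_add {F G α β} := by
    ext V ⟨s, hs⟩
    rfl

theorem preservesFiniteLimits_pre [LocallyOfFiniteType f] :
    PreservesFiniteLimits (EtShriek.lowerShriekPreFunctor f) := by
  haveI : ∀ V : Y.Etaleᵒᵖ, PreservesFiniteLimits (EtShriek.lowerShriekPreFunctor f ⋙
      (evaluation Y.Etaleᵒᵖ AddCommGrpCat.{u + 1}).obj V) := fun V => by
    refine ((Functor.preservesFiniteLimits_tfae (EtShriek.lowerShriekPreFunctor f ⋙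
      (evaluation Y.Etaleᵒᵖ AddCommGrpCat.{u + 1}).obj V)).out 1 3).1 ?_
    intro S hS
    refine ⟨?_, ?_⟩
    · rw [ShortComplex.ab_exact_iff]
      intro x hx
      haveI := hS.2
      let U := (EtCoh.bc f).obj V.unop
      haveI : PreservesFiniteLimits (sheafToPresheaf X.smallEtaleTopology AddCommGrpCat.{u + 1} ⋙
          (evaluation X.Etaleᵒᵖ AddCommGrpCat.{u + 1}).obj (op U)) := comp_preservesFiniteLimits _ _
      obtain ⟨y, hy⟩ := (ShortComplex.ab_exact_iff _).1 (hS.1.map_of_mono_of_preservesKernel
        (sheafToPresheaf X.smallEtaleTopology AddCommGrpCat.{u + 1} ⋙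
          (evaluation X.Etaleᵒᵖ AddCommGrpCat.{u + 1}).obj (op U)) inferInstance inferInstance)
        x.1 (congrArg Subtype.val hx)
      have hm : (y : EtCoh.sect S.X₁ U) ∈ EtShriek.shriekSubgroup f S.X₁ V.unop := by
        rw [ShriekLib.mem_shriekSubgroup_iff]
        have h := (ShriekLib.mem_shriekSubgroup_iff S.X₂ f V.unop x.1).1 x.2
        rw [← show S.f.hom.app (op U) y = x.1 from hy, sectSupp_app_mono] at h
        exact h
      exact ⟨⟨y, hm⟩, Subtype.ext hy⟩
    · haveI := hS.2
      refine (AddCommGrpCat.mono_iff_injective _).2 fun a b h => Subtype.ext (mono_app S.f _ ?_)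
      exact congrArg Subtype.val h
  exact ⟨fun J _ _ => preservesLimitsOfShape_of_evaluation _ J fun V => inferInstance⟩

theorem preservesFiniteLimits_lowerShriek [LocallyOfFiniteType f] :
    PreservesFiniteLimits (EtShriek.lowerShriek f) :=
  haveI := preservesFiniteLimits_pre f
  comp_preservesFiniteLimits _ _

end Groth.Agent.ShriekFib
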