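import Groth.Agent.ShriekFib.Phi
import Groth.Agent.StrictLocLib.ProperBC
import Groth.Agent.EtPtsLib.RecollEquiv
import Groth.Agent.EtLimLib.System

/-!
Compactly supported sections of a geometric fibre extend, given a compactification.
-/

set_option autoImplicit false
set_option linter.unusedSectionVars false
set_option linter.style.haveILetI false
set_option backward.isDefEq.respectTransparency false
set_option backward.isDefEq.respectTransparency.types false
set_option maxHeartbeats 1000000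

universe u

open CategoryTheory CategoryTheory.Limits AlgebraicGeometry Opposite

noncomputable section

namespace Groth.Agent.ShriekFib

open EtPtsLib StrictLocLib

variable {X Y C : Scheme.{u}}

theorem trans_eq_transAdj {T T' : Scheme.{u}} {q : T ⟶ X} {t : T' ⟶ T} {g : T' ⟶ X} (hw : t ≫ q = g)
    (F : EtCoh.Ab X) (x : ((EtCoh.pull q).obj F).obj.obj (op (EtCoh.top T))) :
    (transAdj hw F).hom.app (op (EtCoh.top T'))
      (restrSec (W := EtCoh.top T) t (Category.comp_id t) ((EtCoh.pull q).obj F) x) = trans hw F x := by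
  have e : secMor (W := EtCoh.top T) t (Category.comp_id t) = (EtCore.bcTopIso t).inv :=
    (EtCore.bcTopIsTerminal t).hom_ext _ _
  refine (NatTrans.naturality_apply (transAdj hw F).hom (secMor (W := EtCoh.top T) t (Category.comp_id t)).op _).trans ?_
  rw [e]
  exact congrArg (((EtCoh.pull g).obj F).obj.map (EtCore.bcTopIso t).inv.op)
    congr($(unit_transAdj hw F).hom.app (op (EtCoh.top T)) x)

theorem isProperOver_of_closed {W S : Scheme.{u}} (p : W ⟶ S) [IsProper p] {Z : Set W} (hZ : IsClosed Z) :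
    ClSub.IsProperOver p Z :=
  ⟨hZ, inferInstance⟩

/-- Properness of the preimage under an open immersion of a subset of its image. -/
theorem isProperOver_preimage_open {W W' S : Scheme.{u}} (j : W ⟶ W') [IsOpenImmersion j] (p : W ⟶ S) (p' : W' ⟶ S)
    [LocallyOfFiniteType p] (w : j ≫ p' = p) {Z : Set W'} (hZ : ClSub.IsProperOver p' Z) (h : Z ⊆ Set.range j) :
    ClSub.IsProperOver p (j ⁻¹' Z) := by
  obtain ⟨T, i, hi, -, hr, hp⟩ := ClSubLib.exists_model p' hZ
  haveI := hi
  let i' : T ⟶ W := IsOpenImmersion.lift j i (hr.trans_subset h)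
  have hi' : i' ≫ j = i := IsOpenImmersion.lift_fac _ _ _
  haveI : IsClosedImmersion (i' ≫ j) := by rw [hi']; infer_instance
  haveI : IsClosedImmersion i' := IsClosedImmersion.of_comp i' j
  have hr' : Set.range i' = j ⁻¹' Z := by
    ext x
    refine ⟨?_, fun hx => ?_⟩
    · rintro ⟨a, rfl⟩
      show j (i' a) ∈ Z
      rw [← Scheme.Hom.comp_apply, hi', ← hr]; exact ⟨a, rfl⟩
    · obtain ⟨a, ha⟩ : j x ∈ Set.range i := hr ▸ hx
      exact ⟨a, j.isOpenEmbedding.injective ((Scheme.Hom.comp_apply _ _ _).symm.trans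
        ((congrArg (fun k => k a) hi').trans ha))⟩
  refine (ClSubLib.isProperOver_iff p i' hr').2 ?_
  rw [show i' ≫ p = i ≫ p' by rw [← w, ← Category.assoc, hi']]
  exact hp

variable {Ω : Type u} [Field Ω] [IsSepClosed Ω]

/-- Sections with compact support on the fibre of a compactifiable morphism extend. -/
theorem exists_extend_compact {P : Scheme.{u}} (i : X ⟶ P) [IsOpenImmersion i] (fb : P ⟶ Y) [IsProper fb]
    (f : X ⟶ Y) [LocallyOfFiniteType f] (hf : i ≫ fb = f) (c : C ⟶ X) (d : C ⟶ Spec (CommRingCat.of Ω))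
    [LocallyOfFiniteType d] (η : Spec (CommRingCat.of Ω) ⟶ Y) (sq : IsPullback c d f η) (F : EtCoh.Ab X)
    (t : EtCoh.sect ((EtCoh.pull c).obj F) (EtCoh.top C)) (ht : t ∈ EtShriek.H0c d ((EtCoh.pull c).obj F)) :
    ∃ (V : Y.Etale) (l : (Scheme.pointSmallEtale η).fiber.obj V) (s : EtShriek.shriekSubgroup f F V),
      restrSec (toC f c d η sq.w V l) (toC_w f c d η sq.w V l) F s.1 = t := by
  classical
  let cb := pullback.fst fb η
  let db := pullback.snd fb η
  have sqb : IsPullback cb db fb η := IsPullback.of_hasPullback fb η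
  haveI : IsProper db := MorphismProperty.pullback_snd _ _ ‹IsProper fb›
  let iC : C ⟶ pullback fb η := pullback.lift (c ≫ i) d (by rw [Category.assoc, hf]; exact sq.w)
  have hiC : iC ≫ cb = c ≫ i := pullback.lift_fst _ _ _
  have hiCd : iC ≫ db = d := pullback.lift_snd _ _ _
  have sqi : IsPullback iC c cb i := by
    refine (IsPullback.of_bot (h₁₁ := c) (v₁₁ := iC) (v₁₂ := i) (h₂₁ := cb) ?_ hiC.symm sqb).flip
    rw [hiCd, hf]
    exact sq
  haveI : IsOpenImmersion iC := MorphismProperty.of_isPullback (P := @IsOpenImmersion) sqi.flip ‹_›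
  let H := (EtCoh.push i).obj F
  let Gb := (EtCoh.pull cb).obj H
  let G := (EtCoh.pull c).obj F
  let O : (pullback fb η).Etale := Scheme.Etale.mk iC
  haveI := EtPtsLib.isIso_counit_immersion i F
  haveI := isIso_transAdj (hiC : iC ≫ cb = c ≫ i) H
  haveI := isIso_transAdj (rfl : c ≫ i = c ≫ i) H
  let β : (EtCoh.pull iC).obj Gb ⟶ G := transAdj hiC H ≫ inv (transAdj (rfl : c ≫ i = c ≫ i) H) ≫
    (EtCoh.pull c).map ((EtCoh.pullPushAdj i).counit.app F)
  haveI : IsIso β := inferInstance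
  have hbβ : Function.Bijective (β.hom.app (op (EtCoh.top C))) := by
    haveI : IsIso (β.hom.app (op (EtCoh.top C))) :=
      inferInstanceAs (IsIso (((ObjectProperty.ι _).mapIso (asIso β)).app (op (EtCoh.top C))).hom)
    exact ConcreteCategory.bijective_of_isIso _
  obtain ⟨v, hv⟩ := hbβ.2 t
  obtain ⟨u', hu'⟩ := (bijective_restrSec_self O Gb).2 v
  let K := EtShriek.sectSupp G (EtCoh.top C) t
  have hK : ClSub.IsProperOver (d : (EtCoh.top C).left ⟶ _) K := (ShriekLib.mem_H0c_iff d _ t).1 ht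
  have hu'K : EtShriek.sectSupp Gb O u' = K := by
    have h1 := sectSupp_restrSec (g := O.hom) (𝟙 O.left) (Category.id_comp _) Gb u'
    rw [hu'] at h1
    have h2 := sectSupp_app_iso β (EtCoh.top C) v
    rw [hv] at h2
    exact (h2.trans h1).symm
  let φ : O ⟶ EtCoh.top (pullback fb η) := MorphismProperty.Over.homMk iC (Category.comp_id _)
  let Z : Set (EtCoh.top (pullback fb η)).left := iC '' K
  have hZc : IsClosed Z := by
    haveI : LocallyOfFiniteType db := inferInstance
    exact (ClSubLib.isProperOver_image d db iC hiCd hK (Or.inr inferInstance)).1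
  haveI : IsOpenImmersion φ.left := ‹IsOpenImmersion iC›
  have hinj : Function.Injective φ.left := φ.left.isOpenEmbedding.injective
  have hpre : φ.left.base ⁻¹' Z = K := Set.preimage_image_eq K hinj
  obtain ⟨u, hu, hu2⟩ := (ShriekLib.restrict_bijOn Gb φ Z hZc
    ⟨Set.mapsTo_preimage _ _, hinj.injOn, fun z hz => by
      obtain ⟨k, hk, rfl⟩ := hz; exact ⟨k, hpre.ge hk, rfl⟩⟩
    (fun x _ => ConcreteCategory.bijective_of_isIso _)).surjOn (show EtShriek.sectSupp Gb O u' ⊆ φ.left.base ⁻¹' Z by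
      rw [hu'K, hpre])
  obtain ⟨a, ha⟩ := (bijective_rho fb cb db η sqb H).2 u
  obtain ⟨V₀, l₀, s₀, rfl⟩ := (Scheme.pointSmallEtale η).toPresheafFiber_jointly_surjective a
  replace ha : restrSec (toC fb cb db η sqb.w V₀ l₀) (toC_w fb cb db η sqb.w V₀ l₀) H s₀ = u :=
    (rho_germ fb cb db η sqb.w V₀ l₀ H s₀).symm.trans ha
  let U₀ := (EtCoh.bc fb).obj V₀
  let S₀ := EtShriek.sectSupp H U₀ s₀
  let R₀ : Set U₀.left := Set.range (bcFst i U₀)
  haveI : IsOpenImmersion (bcFst i U₀) :=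
    MorphismProperty.of_isPullback (P := @IsOpenImmersion) (IsPullback.of_hasPullback U₀.hom i).flip ‹_›
  haveI : IsProper (bcFst fb V₀) :=
    MorphismProperty.of_isPullback (P := @IsProper) (IsPullback.of_hasPullback V₀.hom fb).flip ‹IsProper fb›
  let O₀ : V₀.left.Opens := ⟨(bcFst fb V₀ '' (S₀ \ R₀))ᶜ,
    ((bcFst fb V₀).isClosedMap _ ((isClosed_sectSupp H U₀ s₀).sdiff
      (bcFst i U₀).isOpenEmbedding.isOpen_range)).isOpen_compl⟩
  have hl₀ : liftHom η l₀ default ∈ O₀ := by
    rintro ⟨y, ⟨hy, hyR⟩, hyl⟩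
    obtain ⟨z, rfl⟩ := exists_toC_eq fb cb db η sqb V₀ l₀ y hyl
    have h1 := sectSupp_restrSec _ (toC_w fb cb db η sqb.w V₀ l₀) H s₀
    rw [ha] at h1
    obtain ⟨k, -, rfl⟩ : z ∈ Z := hu (h1.ge hy)
    let M₀ : C ⟶ ((EtCoh.bc i).obj U₀).left :=
      pullback.lift (iC ≫ toC fb cb db η sqb.w V₀ l₀) c (by rw [Category.assoc, toC_w, hiC])
    have hM₀ : M₀ ≫ bcFst i U₀ = iC ≫ toC fb cb db η sqb.w V₀ l₀ := pullback.lift_fst _ _ _
    exact hyR ⟨M₀ k, (Scheme.Hom.comp_apply M₀ (bcFst i U₀) k).symm.trans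
      ((congrArg (fun m : C ⟶ U₀.left => m k) hM₀).trans (Scheme.Hom.comp_apply _ _ _))⟩
  obtain ⟨l, hl⟩ := exists_shrink fb cb db η sqb V₀ l₀ O₀ hl₀
  let V := openSub V₀ O₀
  let ψ := openIncl V₀ O₀
  let U := (EtCoh.bc fb).obj V
  let s₁ : EtCoh.sect H U := H.obj.map ((EtCoh.bc fb).map ψ).op s₀
  have hs₁ : restrSec (toC fb cb db η sqb.w V l) (toC_w fb cb db η sqb.w V l) H s₁ = u := by
    refine ((ConcreteCategory.comp_apply _ _ _).symm.trans (congrArg (fun m => (ConcreteCategory.hom m) s₀)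
      (restrSec_map ((EtCoh.bc fb).map ψ) _ (toC_w fb cb db η sqb.w V l) _ (toC_w fb cb db η sqb.w V₀ l₀) ?_ H))).trans ha
    rw [toC_map, hl]
  let S₁ := EtShriek.sectSupp H U s₁
  haveI : IsOpenImmersion (bcFst i U) :=
    MorphismProperty.of_isPullback (P := @IsOpenImmersion) (IsPullback.of_hasPullback U.hom i).flip ‹_›
  have hS₁ : S₁ ⊆ Set.range (bcFst i U) := by
    intro y hy
    have hy0 : ((EtCoh.bc fb).map ψ).left y ∈ S₀ := (mem_sectSupp_map_iff H _ s₀ y).1 hy
    by_cases hR : ((EtCoh.bc fb).map ψ).left y ∈ R₀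
    · obtain ⟨x, hx⟩ := hR
      obtain ⟨z, -, hz⟩ := Scheme.exists_preimage_of_isPullback (EtCoh.isPullback_bc_map i ((EtCoh.bc fb).map ψ))
        x y hx
      exact ⟨z, hz⟩
    · exact absurd ⟨_, ⟨hy0, hR⟩, congrArg (fun k => k y) (bcFst_map fb ψ)⟩ (bcFst fb V y : O₀.toScheme).2
  let κ := EtLimLib.bcSpInv fb i f hf V
  haveI : IsIso κ := ⟨_, EtLimLib.bcSpInv_bcSp fb i f hf V, EtLimLib.bcSp_bcSpInv fb i f hf V⟩
  haveI : IsIso κ.left := ⟨(inv κ).left, congrArg (fun m => m.left) (IsIso.hom_inv_id κ),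
    congrArg (fun m => m.left) (IsIso.inv_hom_id κ)⟩
  let j := κ.left ≫ bcFst i U
  haveI : IsProper (EtShriek.prV fb V) :=
    MorphismProperty.of_isPullback (P := @IsProper) (IsPullback.of_hasPullback V.hom fb).flip ‹IsProper fb›
  haveI := ShriekLib.lft_prV f V
  let s : EtCoh.sect F ((EtCoh.bc f).obj V) := F.obj.map κ.op s₁
  have hjpr : j ≫ EtShriek.prV fb V = EtShriek.prV f V := by
    show (κ.left ≫ bcFst i U) ≫ _ = _
    rw [Category.assoc, ← Category.assoc]
    have e := EtLimLib.bcSpInv_fst fb i f hf V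
    exact (congrArg (· ≫ _) e).trans (pullback.lift_fst _ _ _)
  have hs : s ∈ EtShriek.shriekSubgroup f F V := by
    rw [ShriekLib.mem_shriekSubgroup_iff]
    refine ClSubLib.isProperOver_subset _ (isProperOver_preimage_open j (EtShriek.prV f V) (EtShriek.prV fb V) hjpr
      (isProperOver_of_closed _ (isClosed_sectSupp H U s₁)) ?_) (isClosed_sectSupp F _ s) ?_
    · intro y hy
      obtain ⟨x, rfl⟩ := hS₁ hy
      exact ⟨(inv κ.left) x, (Scheme.Hom.comp_apply _ _ _).symm.trans
        (congrArg (fun m => m x) (IsIso.inv_hom_id_assoc κ.left (bcFst i U)))⟩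
    · intro x hx
      have h1 := sectSupp_app_push_subset i (𝟙 H) U s₁ ((mem_sectSupp_map_iff F κ s₁ x).1 hx)
      exact (congrArg (· ∈ S₁) (Scheme.Hom.comp_apply κ.left (bcFst i U) x)).mpr h1
  refine ⟨V, l, ⟨s, hs⟩, ?_⟩
  let M : C ⟶ ((EtCoh.bc i).obj U).left := pullback.lift (iC ≫ toC fb cb db η sqb.w V l) c
    (by rw [Category.assoc, toC_w, hiC])
  have hM : M ≫ ((EtCoh.bc i).obj U).hom = c := pullback.lift_snd _ _ _
  have e1 : restrSec (toC f c d η sq.w V l) (toC_w f c d η sq.w V l) F s = restrSec M hM F s₁ := by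
    refine (ConcreteCategory.comp_apply _ _ _).symm.trans (congrArg (fun m => (ConcreteCategory.hom m) s₁)
      (restrSec_map κ _ (toC_w f c d η sq.w V l) M hM ?_ F))
    refine pullback.hom_ext ?_ ?_
    · rw [pullback.lift_fst, Category.assoc]
      refine (congrArg (toC f c d η sq.w V l ≫ ·) (EtLimLib.bcSpInv_fst fb i f hf V)).trans ?_
      apply pullback.hom_ext
      · rw [Category.assoc, pullback.lift_fst, toC_fst, Category.assoc, toC_fst, ← Category.assoc, hiCd]
      · rw [Category.assoc, pullback.lift_snd, ← Category.assoc, Category.assoc iC]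
        rw [show toC f c d η sq.w V l ≫ pullback.snd V.hom f = c from toC_w f c d η sq.w V l,
          show toC fb cb db η sqb.w V l ≫ pullback.snd V.hom fb = cb from toC_w fb cb db η sqb.w V l, hiC]
    · refine (Category.assoc _ _ _).trans ((congrArg (_ ≫ ·) (MorphismProperty.Over.w κ)).trans ?_)
      exact (toC_w f c d η sq.w V l).trans hM.symm
  refine e1.trans (Eq.trans ?_ hv)
  rw [← hu', ← hu2]
  have e2 : restrSec (g := O.hom) (𝟙 O.left) (Category.id_comp _) Gb (Gb.obj.map φ.op u) =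
      restrSec (W := EtCoh.top (pullback fb η)) iC (Category.comp_id iC) Gb u :=
    (ConcreteCategory.comp_apply _ _ _).symm.trans (congrArg (fun m => (ConcreteCategory.hom m) u)
      (restrSec_map φ _ _ iC (Category.comp_id iC) (Category.id_comp _) Gb))
  rw [e2]
  show _ = ((EtCoh.pull c).map ((EtCoh.pullPushAdj i).counit.app F)).hom.app (op (EtCoh.top C))
    ((inv (transAdj (rfl : c ≫ i = c ≫ i) H)).hom.app (op (EtCoh.top C))
      ((transAdj hiC H).hom.app (op (EtCoh.top C)) (restrSec (W := EtCoh.top (pullback fb η)) iC (Category.comp_id iC) Gb u)))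
  rw [trans_eq_transAdj hiC H u, ← hs₁, trans_restrSec]
  let υ := ((EtCoh.pullPushAdj i).unit.app H).hom.app (op U)
  have e3 : restrSec (iC ≫ toC fb cb db η sqb.w V l) (by rw [Category.assoc, toC_w, hiC]) H s₁ =
      adjTop (rfl : c ≫ i = c ≫ i) H (restrSec M hM ((EtCoh.pull i).obj H) (υ s₁)) := by
    rw [adjTop_unit]
    exact congrArg (fun k : H.obj.obj (op U) ⟶ _ => (ConcreteCategory.hom k) s₁)
      (restrSec_congr (pullback.lift_fst _ _ _).symm _ _ H)
  rw [e3]
  have e4 : (inv (transAdj (rfl : c ≫ i = c ≫ i) H)).hom.app (op (EtCoh.top C))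
      (adjTop (rfl : c ≫ i = c ≫ i) H (restrSec M hM ((EtCoh.pull i).obj H) (υ s₁))) =
      restrSec M hM ((EtCoh.pull i).obj H) (υ s₁) :=
    (ConcreteCategory.comp_apply _ _ _).symm.trans (congrArg
      (fun m : (EtCoh.pull c).obj ((EtCoh.pull i).obj H) ⟶ _ => m.hom.app (op (EtCoh.top C))
        (restrSec M hM ((EtCoh.pull i).obj H) (υ s₁))) (IsIso.hom_inv_id (transAdj (rfl : c ≫ i = c ≫ i) H)))
  rw [e4]
  refine Eq.trans ?_ (ConcreteCategory.congr_hom (restrSec_natural M hM ((EtCoh.pullPushAdj i).counit.app F)) (υ s₁))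
  refine congrArg (restrSec M hM F) ?_
  exact congr($((EtCoh.pullPushAdj i).right_triangle_components F).hom.app (op U) s₁).symm

end Groth.Agent.ShriekFib
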