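import Groth.Agent.ShriekFib.Good

/-!
Extension of compactly supported sections descends along proper surjections onto an open.
-/

set_option autoImplicit false
set_option linter.unusedSectionVars false
set_option linter.style.haveILetI false
set_option backward.isDefEq.respectTransparency false
set_option backward.isDefEq.respectTransparency.types false
set_option maxHeartbeats 1000000

universe u

open CategoryTheory CategoryTheory.Limits AlgebraicGeometry Opposite

noncomputable section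

namespace Groth.Agent.ShriekFib

open EtPtsLib StrictLocLib

variable {X X'' Y C : Scheme.{u}} {Ω : Type u} [Field Ω] [IsSepClosed Ω]

/-- The square of the fibre of the composite. -/
theorem isPullback_comp {f : X ⟶ Y} {c : C ⟶ X} {d : C ⟶ Spec (CommRingCat.of Ω)}
    {η : Spec (CommRingCat.of Ω) ⟶ Y} (sq : IsPullback c d f η) (q : X'' ⟶ X) :
    IsPullback (pullback.snd c q) (pullback.fst c q ≫ d) (q ≫ f) η :=
  (IsPullback.of_hasPullback c q).flip.paste_vert sq

theorem exists_extend_of_cover {X₀ : Scheme.{u}} (π : X'' ⟶ X₀) [IsProper π] [Surjective π] (ι : X₀ ⟶ X)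
    [IsOpenImmersion ι] (q : X'' ⟶ X) (hq : q = π ≫ ι) (f : X ⟶ Y) [IsSeparated f] [LocallyOfFiniteType f]
    [LocallyOfFiniteType (q ≫ f)] (c : C ⟶ X) (d : C ⟶ Spec (CommRingCat.of Ω)) [LocallyOfFiniteType d]
    [LocallyOfFiniteType (pullback.fst c q ≫ d)]
    (η : Spec (CommRingCat.of Ω) ⟶ Y) (sq : IsPullback c d f η) (F : EtCoh.Ab X)
    (hext : ∀ t'' ∈ EtShriek.H0c (pullback.fst c q ≫ d)
        ((EtCoh.pull (pullback.snd c q)).obj ((EtCoh.pull q).obj F)),
      ∃ (V : Y.Etale) (l : (Scheme.pointSmallEtale η).fiber.obj V)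
        (s : EtShriek.shriekSubgroup (q ≫ f) ((EtCoh.pull q).obj F) V),
        restrSec (toC (q ≫ f) (pullback.snd c q) (pullback.fst c q ≫ d) η (isPullback_comp sq q).w V l)
          (toC_w (q ≫ f) (pullback.snd c q) (pullback.fst c q ≫ d) η (isPullback_comp sq q).w V l)
          ((EtCoh.pull q).obj F) s.1 = t'')
    (t : EtCoh.sect ((EtCoh.pull c).obj F) (EtCoh.top C)) (ht : t ∈ EtShriek.H0c d ((EtCoh.pull c).obj F))
    (hK : EtShriek.sectSupp ((EtCoh.pull c).obj F) (EtCoh.top C) t ⊆ c ⁻¹' Set.range ι) :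
    ∃ (V : Y.Etale) (l : (Scheme.pointSmallEtale η).fiber.obj V) (s : EtShriek.shriekSubgroup f F V),
      restrSec (toC f c d η sq.w V l) (toC_w f c d η sq.w V l) F s.1 = t := by
  classical
  let p := pullback.fst c q
  let c'' := pullback.snd c q
  let g₃ := c'' ≫ q
  have hpc : p ≫ c = g₃ := pullback.condition
  let F'' := (EtCoh.pull q).obj F
  let G := (EtCoh.pull c).obj F
  let G'' := (EtCoh.pull c'').obj F''
  have hrange : Set.range ι = Set.range q := by
    subst hq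
    refine Set.Subset.antisymm ?_ ?_
    · rintro _ ⟨x, rfl⟩
      obtain ⟨y, rfl⟩ := π.surjective x
      exact ⟨y, Scheme.Hom.comp_apply π ι y⟩
    · rintro _ ⟨y, rfl⟩
      exact ⟨π y, (Scheme.Hom.comp_apply π ι y).symm⟩
  -- the section on the cover
  let t₁ := trans hpc F t
  obtain ⟨t'', ht''⟩ := (bijective_adjTop (rfl : c'' ≫ q = g₃) F).2 t₁
  let K := EtShriek.sectSupp G (EtCoh.top C) t
  have hsupp : EtShriek.sectSupp G'' (EtCoh.top (pullback c q)) t'' = p ⁻¹' K := by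
    haveI := isIso_transAdj (rfl : c'' ≫ q = g₃) F
    refine ((sectSupp_app_iso (transAdj (rfl : c'' ≫ q = g₃) F) (EtCoh.top (pullback c q)) t'').symm.trans ?_)
    exact (congrArg (EtShriek.sectSupp _ _) ht'').trans (sectSupp_trans hpc F t)
  have hKp : ClSub.IsProperOver (d : (EtCoh.top C).left ⟶ _) K := (ShriekLib.mem_H0c_iff d _ t).1 ht
  have hK'' : ClSub.IsProperOver (p ≫ d) (p ⁻¹' K) := by
    subst hq
    let C₀ : C.Opens := c ⁻¹ᵁ ι.opensRange
    have hp : Set.range p ⊆ Set.range C₀.ι := by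
      rw [Scheme.Opens.range_ι]
      rintro _ ⟨y, rfl⟩
      show c (p y) ∈ Set.range ι
      refine ⟨π (c'' y), ?_⟩
      rw [← Scheme.Hom.comp_apply, ← Scheme.Hom.comp_apply, ← Scheme.Hom.comp_apply]
      exact congrArg (fun k => k y) (pullback.condition (f := c) (g := π ≫ ι)).symm
    let p₀ : pullback c (π ≫ ι) ⟶ C₀.toScheme := IsOpenImmersion.lift C₀.ι p hp
    have hp₀ : p₀ ≫ C₀.ι = p := IsOpenImmersion.lift_fac _ _ _
    let c₀ : C₀.toScheme ⟶ X₀ := IsOpenImmersion.lift ι (C₀.ι ≫ c) (by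
      rintro _ ⟨y, rfl⟩
      rw [Scheme.Hom.comp_apply]; exact y.2)
    have hc₀ : c₀ ≫ ι = C₀.ι ≫ c := IsOpenImmersion.lift_fac _ _ _
    have sq₀ : IsPullback p₀ c'' c₀ π := by
      refine IsPullback.of_isLimit' ⟨(cancel_mono ι).1 ?_⟩ (PullbackCone.IsLimit.mk _
        (fun s => pullback.lift (s.fst ≫ C₀.ι) s.snd ?_) (fun s => ?_) (fun s => pullback.lift_snd _ _ _)
        fun s m h₁ h₂ => pullback.hom_ext ?_ (h₂.trans (pullback.lift_snd _ _ _).symm))
      · rw [Category.assoc, Category.assoc, hc₀, ← Category.assoc, hp₀]; exact pullback.condition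
      · rw [Category.assoc, ← hc₀, ← Category.assoc, ← Category.assoc]; exact congrArg (· ≫ ι) s.condition
      · rw [← cancel_mono C₀.ι, Category.assoc, hp₀]; exact pullback.lift_fst _ _ _
      · rw [pullback.lift_fst, ← h₁, Category.assoc, hp₀]
    haveI : IsProper p₀ := MorphismProperty.of_isPullback (P := @IsProper) sq₀.flip ‹_›
    have h0 : ClSub.IsProperOver (C₀.ι ≫ d) (C₀.ι ⁻¹' K) :=
      isProperOver_preimage_open C₀.ι (C₀.ι ≫ d) (d : C ⟶ _) rfl hKp (by rw [Scheme.Opens.range_ι]; exact hK)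
    have h1 := ClSubLib.isProperOver_preimage (p ≫ d) (C₀.ι ≫ d) p₀ (by rw [← Category.assoc, hp₀]) h0
    rwa [← Set.preimage_comp, show ⇑C₀.ι ∘ ⇑p₀ = ⇑p from funext fun y =>
      (Scheme.Hom.comp_apply _ _ _).symm.trans (congrArg (fun k => k y) hp₀)] at h1
  obtain ⟨V, l, ⟨s'', hs''⟩, hres⟩ := hext t'' ((ShriekLib.mem_H0c_iff _ _ _).2 (by
    refine (congrArg (ClSub.IsProperOver _) hsupp).mpr hK''))
  -- as a section over the pullback of the neighbourhood
  let U := (EtCoh.bc f).obj V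
  let β := EtLimLib.bcSp f q (q ≫ f) rfl V
  haveI : IsIso β := ⟨_, EtLimLib.bcSp_bcSpInv f q (q ≫ f) rfl V, EtLimLib.bcSpInv_bcSp f q (q ≫ f) rfl V⟩
  haveI : IsIso β.left := ⟨(inv β).left, congrArg (fun m => m.left) (IsIso.hom_inv_id β),
    congrArg (fun m => m.left) (IsIso.inv_hom_id β)⟩
  haveI := ShriekLib.lft_prV f V
  haveI := ShriekLib.lft_prV (q ≫ f) V
  haveI : IsSeparated (EtShriek.prV f V) :=
    MorphismProperty.of_isPullback (P := @IsSeparated) (IsPullback.of_hasPullback V.hom f).flip ‹_›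
  let σ : EtCoh.sect F'' ((EtCoh.bc q).obj U) := F''.obj.map β.op s''
  let S := EtShriek.sectSupp F'' ((EtCoh.bc q).obj U) σ
  let Sq : Set U.left := bcFst q U '' S
  have hβpr : β.left ≫ EtShriek.prV (q ≫ f) V = bcFst q U ≫ EtShriek.prV f V :=
    EtLimLib.bcSp_fst f q (q ≫ f) rfl V
  haveI : LocallyOfFiniteType (bcFst q U ≫ EtShriek.prV f V) := by rw [← hβpr]; infer_instance
  have hSq : ClSub.IsProperOver (EtShriek.prV f V) Sq := by
    refine ClSubLib.isProperOver_image _ _ (bcFst q U) rfl ?_ (Or.inr inferInstance)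
    refine (congrArg (ClSub.IsProperOver _) (ShriekLib.sectSupp_map F'' β s'')).mpr ?_
    exact ClSubLib.isProperOver_preimage _ _ β.left hβpr ((ShriekLib.mem_shriekSubgroup_iff F'' (q ≫ f) V s'').1 hs'')
  let X₀U : U.left.Opens := U.hom ⁻¹ᵁ ι.opensRange
  have hSqX : Sq ⊆ X₀U := by
    rintro _ ⟨y, -, rfl⟩
    show U.hom (bcFst q U y) ∈ Set.range ι
    rw [hrange]
    exact ⟨pullback.snd U.hom q y, (Scheme.Hom.comp_apply (pullback.snd U.hom q) q y).symm.trans
      ((congrArg (fun k : ((EtCoh.bc q).obj U).left ⟶ X => k y) pullback.condition.symm).trans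
        (Scheme.Hom.comp_apply (bcFst q U) U.hom y))⟩
  let m := toC f c d η sq.w V l
  have hm : m ≫ U.hom = c := toC_w f c d η sq.w V l
  let M : pullback c q ⟶ ((EtCoh.bc q).obj U).left := pullback.lift (p ≫ m) c''
    (by rw [Category.assoc, hm]; exact pullback.condition)
  have hM₁ : M ≫ bcFst q U = p ≫ m := pullback.lift_fst _ _ _
  have hM₂ : M ≫ ((EtCoh.bc q).obj U).hom = c'' := pullback.lift_snd _ _ _
  have hσ : trans hpc F t = adjTop (rfl : c'' ≫ q = g₃) F (restrSec M hM₂ F'' σ) := by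
    refine ht''.symm.trans (congrArg (adjTop (rfl : c'' ≫ q = g₃) F) (hres.symm.trans ?_))
    refine ((ConcreteCategory.comp_apply _ _ _).symm.trans (congrArg (fun k => (ConcreteCategory.hom k) s'')
      (restrSec_map β M hM₂ _ (toC_w (q ≫ f) c'' (p ≫ d) η (isPullback_comp sq q).w V l) ?_ F''))).symm
    apply pullback.hom_ext
    · rw [Category.assoc, EtLimLib.bcSp_fst, ← Category.assoc]
      refine (congrArg (· ≫ pullback.fst V.hom f) hM₁).trans ?_
      rw [Category.assoc, toC_fst, ← Category.assoc]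
      exact (toC_fst (q ≫ f) c'' (p ≫ d) η (isPullback_comp sq q).w V l).symm
    · refine (Category.assoc _ _ _).trans ((congrArg (M ≫ ·) (MorphismProperty.Over.w β)).trans ?_)
      exact hM₂.trans (toC_w (q ≫ f) c'' (p ≫ d) η (isPullback_comp sq q).w V l).symm
  -- every point of the open is good near the fibre
  let Gd := Good q F U σ
  have hout : ∀ y ∈ (X₀U : Set U.left), y ∉ Sq → y ∈ Gd := by
    intro y hy hyS
    let O : U.left.Opens := ⟨(X₀U : Set U.left) \ Sq, X₀U.2.sdiff hSq.1⟩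
    refine ⟨openSub U O, openIncl U O, ⟨y, hy, hyS⟩, 0, rfl, ?_, ?_⟩
    · rintro _ ⟨w, rfl⟩
      rw [← hrange]
      exact ((congrArg (fun k => k w) (MorphismProperty.Over.w (openIncl U O))).symm.trans
        (Scheme.Hom.comp_apply _ _ _)) ▸ (w : O.toScheme).2.1
    · refine (map_zero _).trans (map_eq_zero (s := σ) ((EtCoh.bc q).map (openIncl U O)) fun v hv => ?_).symm
      exact (bcFst q (openSub U O) v : O.toScheme).2.2
        ⟨_, hv, congrArg (fun k => k v) (bcFst_map q (openIncl U O))⟩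
  let B : Set U.left := Sq \ Gd
  have hB : IsClosed B := hSq.1.sdiff (isOpen_good q F U σ)
  obtain ⟨T, i, hi, -, hr, hip⟩ := ClSubLib.exists_model _
    (ClSubLib.isProperOver_subset _ hSq hB Set.sdiff_subset)
  haveI := hi
  haveI := hip
  let O₁ : V.left.Opens := ⟨(EtShriek.prV f V '' B)ᶜ, by
    rw [show EtShriek.prV f V '' B = Set.range (i ≫ EtShriek.prV f V) by
      rw [show B = Set.range i from hr.symm, ← Set.range_comp]; rfl]
    exact (i ≫ EtShriek.prV f V).isClosedMap.isClosed_range.isOpen_compl⟩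
  have hl₁ : liftHom η l default ∈ O₁ := by
    rintro ⟨y, ⟨hyS, hyG⟩, hyl⟩
    obtain ⟨z, rfl⟩ := exists_toC_eq f c d η sq V l y hyl
    refine hyG (mem_good_of_fibre c π ι hq hrange.le U σ m hm t M hM₁ hM₂ hσ z ?_)
    rw [← hrange, ← hm, Scheme.Hom.comp_apply]
    exact hSqX hyS
  obtain ⟨l₁, hl₁'⟩ := exists_shrink f c d η sq V l O₁ hl₁
  let V₁ := openSub V O₁
  let φV := openIncl V O₁
  let U₁ := (EtCoh.bc f).obj V₁
  let φ := (EtCoh.bc f).map φV
  let Z₁ : Set U₁.left := φ.left ⁻¹' Sq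
  have hZ₁ : ClSub.IsProperOver (EtShriek.prV f V₁) Z₁ := ShriekLib.isProperOver_bc f φV hSq
  let W₁ : U₁.left.Opens := φ.left ⁻¹ᵁ X₀U
  let O := openSub U₁ W₁
  let ψ := openIncl U₁ W₁
  haveI : IsOpenImmersion ψ.left := inferInstanceAs (IsOpenImmersion W₁.ι)
  have hψr : Set.range ψ.left = (W₁ : Set U₁.left) := Scheme.Opens.range_ι W₁
  have hOq : Set.range O.hom ⊆ Set.range q := by
    rintro _ ⟨w, rfl⟩
    rw [← hrange]
    refine ((congrArg (fun k => k w) (MorphismProperty.Over.w (ψ ≫ φ))).symm.trans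
      (Scheme.Hom.comp_apply _ _ _)) ▸ ?_
    exact (Scheme.Hom.comp_apply ψ.left φ.left w) ▸ (w : W₁.toScheme).2
  have hgood : ∀ o, (ψ ≫ φ).left o ∈ Gd := by
    intro o
    have hX : (ψ ≫ φ).left o ∈ X₀U := (Scheme.Hom.comp_apply ψ.left φ.left o) ▸ (o : W₁.toScheme).2
    by_cases hS : (ψ ≫ φ).left o ∈ Sq
    · by_contra hG
      refine (bcFst f V₁ (ψ.left o) : O₁.toScheme).2 ⟨_, ⟨hS, hG⟩, ?_⟩
      show EtShriek.prV f V ((ψ.left ≫ φ.left) o) = _
      rw [Scheme.Hom.comp_apply]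
      exact congrArg (fun k => k (ψ.left o)) (bcFst_map f φV)
    · exact hout _ hX hS
  obtain ⟨s₀, hs₀⟩ := exists_glue q F U O (ψ ≫ φ) σ hOq hgood
  have hs₀S : EtShriek.sectSupp F O s₀ ⊆ ψ.left.base ⁻¹' Z₁ := by
    intro o ho
    obtain ⟨x, hx⟩ := hOq ⟨o, rfl⟩
    obtain ⟨y, hy, -⟩ := Scheme.Pullback.exists_preimage_pullback (f := O.hom) (g := q) o x hx.symm
    have h1 : y ∈ EtShriek.sectSupp F'' ((EtCoh.bc q).obj O)
        (((EtCoh.pullPushAdj q).unit.app F).hom.app (op O) s₀) := by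
      rw [sectSupp_unit]; exact (congrArg (· ∈ EtShriek.sectSupp F O s₀) (show bcFst q O y = o from hy)).mpr ho
    rw [hs₀, mem_sectSupp_map_iff] at h1
    refine ⟨_, h1, ?_⟩
    refine (congrArg (fun k => k y) (bcFst_map q (ψ ≫ φ))).trans ?_
    show (ψ.left ≫ φ.left) (bcFst q O y) = φ.left (ψ.left o)
    rw [show bcFst q O y = o from hy, Scheme.Hom.comp_apply]
  have hinj : Function.Injective ψ.left := ψ.left.isOpenEmbedding.injective
  obtain ⟨s, hs, hs2⟩ := (ShriekLib.restrict_bijOn F ψ Z₁ hZ₁.1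
    ⟨Set.mapsTo_preimage _ _, hinj.injOn, fun z hz => ⟨⟨z, hSqX hz⟩, hz, rfl⟩⟩
    (fun x _ => ConcreteCategory.bijective_of_isIso _)).surjOn hs₀S
  haveI := ShriekLib.lft_prV f V₁
  have hmem : s ∈ EtShriek.shriekSubgroup f F V₁ := (ShriekLib.mem_shriekSubgroup_iff F f V₁ s).2
    (ClSubLib.isProperOver_subset _ hZ₁ (isClosed_sectSupp F _ s) hs)
  refine ⟨V₁, l₁, ⟨s, hmem⟩, ?_⟩
  let m₁ := toC f c d η sq.w V₁ l₁
  have hm₁ : m₁ ≫ U₁.hom = c := toC_w f c d η sq.w V₁ l₁
  have hmφ : m₁ ≫ φ.left = m := (toC_map f c d η sq.w φV l₁).trans (congrArg (toC f c d η sq.w V) hl₁')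
  let e : EtCoh.sect G (EtCoh.top C) := restrSec m₁ hm₁ F s - t
  have he : trans hpc F e = 0 := by
    refine (map_sub _ _ _).trans (sub_eq_zero.2 ?_)
    rw [trans_restrSec, hσ]
    have hlift : Set.range (p ≫ m₁) ⊆ Set.range ψ.left := by
      rw [hψr]
      rintro _ ⟨y, rfl⟩
      show U.hom (φ.left ((p ≫ m₁) y)) ∈ Set.range ι
      have e : ((p ≫ m₁) ≫ φ.left) ≫ U.hom = c'' ≫ q := by
        rw [Category.assoc p, hmφ, Category.assoc, hm]; exact hpc
      rw [hrange]
      refine ⟨c'' y, (Scheme.Hom.comp_apply c'' q y).symm.trans ?_⟩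
      refine (congrArg (fun k : pullback c q ⟶ X => k y) e.symm).trans ?_
      exact (Scheme.Hom.comp_apply _ _ _).trans (congrArg U.hom (Scheme.Hom.comp_apply _ _ _))
    let mO : pullback c q ⟶ O.left := IsOpenImmersion.lift ψ.left (p ≫ m₁) hlift
    have hmO : mO ≫ ψ.left = p ≫ m₁ := IsOpenImmersion.lift_fac _ _ _
    have hmO' : mO ≫ O.hom = g₃ := by
      rw [← MorphismProperty.Over.w ψ, ← Category.assoc, hmO, Category.assoc, hm₁]; exact hpc
    have e1 : restrSec (p ≫ m₁) (by rw [Category.assoc, hm₁]; exact hpc) F s = restrSec mO hmO' F s₀ := by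
      rw [← hs2]
      exact ((ConcreteCategory.comp_apply _ _ _).symm.trans (congrArg (fun k => (ConcreteCategory.hom k) s)
        (restrSec_map ψ mO hmO' _ _ hmO F))).symm
    let MO : pullback c q ⟶ ((EtCoh.bc q).obj O).left := pullback.lift mO c'' hmO'
    have e2 : restrSec mO hmO' F s₀ = adjTop (rfl : c'' ≫ q = g₃) F
        (restrSec MO (pullback.lift_snd _ _ _) F'' (((EtCoh.pullPushAdj q).unit.app F).hom.app (op O) s₀)) := by
      rw [adjTop_unit]
      exact congrArg (fun k : F.obj.obj (op O) ⟶ _ => (ConcreteCategory.hom k) s₀)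
        (restrSec_congr (pullback.lift_fst _ _ _).symm _ _ F)
    refine e1.trans (e2.trans (congrArg (adjTop (rfl : c'' ≫ q = g₃) F) ?_))
    rw [hs₀]
    refine (ConcreteCategory.comp_apply _ _ _).symm.trans (congrArg (fun k => (ConcreteCategory.hom k) σ)
      (restrSec_map ((EtCoh.bc q).map (ψ ≫ φ)) MO _ M hM₂ ?_ F''))
    apply pullback.hom_ext
    · rw [Category.assoc, EtLimLib.bc_map_fst, ← Category.assoc, pullback.lift_fst]
      show mO ≫ ψ.left ≫ φ.left = _
      rw [← Category.assoc, hmO, Category.assoc, hmφ]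
      exact hM₁.symm
    · refine (Category.assoc _ _ _).trans ((congrArg (MO ≫ ·) (MorphismProperty.Over.w ((EtCoh.bc q).map (ψ ≫ φ)))).trans ?_)
      exact (pullback.lift_snd _ _ _).trans hM₂.symm
  refine sub_eq_zero.1 (eq_zero_of_supp (F := G) (U := EtCoh.top C) (s := e) (Set.eq_empty_iff_forall_notMem.2 fun z hz => ?_))
  have hzX : c z ∈ Set.range q := by
    rw [← hrange]
    by_contra hc
    have h1 : z ∉ K := fun h => hc (hK h)
    have h2 : z ∉ EtShriek.sectSupp G (EtCoh.top C) (restrSec m₁ hm₁ F s) := by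
      rw [sectSupp_restrSec]
      intro h
      have hZ := hSqX (hs h)
      exact hc ((congrArg (· ∈ Set.range ι) ((Scheme.Hom.comp_apply _ _ _).symm.trans
        (congrArg (fun k => k z) ((Category.assoc m₁ φ.left U.hom).symm.trans ((congrArg (· ≫ U.hom) hmφ).trans hm))))).mp hZ)
    have hneg : z ∈ EtShriek.sectSupp G (EtCoh.top C) (restrSec m₁ hm₁ F s + -t) := by
      rwa [← sub_eq_add_neg]
    rcases ShriekLib.sectSupp_add_subset G _ _ _ hneg with h | h
    · exact h2 h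
    · exact h1 (by rwa [ShriekLib.sectSupp_neg] at h)
  obtain ⟨x, hx⟩ := hzX
  obtain ⟨z'', hz'', -⟩ := Scheme.Pullback.exists_preimage_pullback (f := c) (g := q) z x hx.symm
  have h1 : z'' ∈ EtShriek.sectSupp ((EtCoh.pull g₃).obj F) (EtCoh.top (pullback c q)) (trans hpc F e) := by
    rw [sectSupp_trans]
    exact (congrArg (· ∈ EtShriek.sectSupp G (EtCoh.top C) e) hz'').mpr hz
  rw [he, ShriekLib.sectSupp_zero] at h1
  exact h1

end Groth.Agent.ShriekFib
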