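import Groth.Agent.ShriekFib.Trans

/-!
Descent of sections along a proper surjection onto an open.
-/

set_option autoImplicit false
set_option linter.unusedSectionVars false
set_option linter.style.haveILetI false
set_option backward.isDefEq.respectTransparency false
set_option backward.isDefEq.respectTransparency.types false
set_option maxHeartbeats 800000

universe u

open CategoryTheory CategoryTheory.Limits AlgebraicGeometry Opposite

noncomputable section

namespace Groth.Agent.ShriekFib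

open EtPtsLib StrictLocLib

variable {X X'' C : Scheme.{u}} (q : X'' ⟶ X) (F : EtCoh.Ab X)

/-- Points near which a section of the inverse image comes from below. -/
def Good (U : X.Etale) (σ : EtCoh.sect ((EtCoh.pull q).obj F) ((EtCoh.bc q).obj U)) : Set U.left :=
  {y | ∃ (W : X.Etale) (g : W ⟶ U) (w : W.left) (sW : EtCoh.sect F W), g.left w = y ∧
    Set.range W.hom ⊆ Set.range q ∧
    ((EtCoh.pullPushAdj q).unit.app F).hom.app (op W) sW =
      ((EtCoh.pull q).obj F).obj.map ((EtCoh.bc q).map g).op σ}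

theorem isOpen_good (U : X.Etale) (σ : EtCoh.sect ((EtCoh.pull q).obj F) ((EtCoh.bc q).obj U)) :
    IsOpen (Good q F U σ) := by
  have e : Good q F U σ = ⋃ (W : X.Etale) (g : W ⟶ U) (sW : EtCoh.sect F W)
      (_ : Set.range W.hom ⊆ Set.range q ∧ ((EtCoh.pullPushAdj q).unit.app F).hom.app (op W) sW =
        ((EtCoh.pull q).obj F).obj.map ((EtCoh.bc q).map g).op σ), Set.range g.left := by
    ext y
    simp only [Good, Set.mem_ofPred_eq, Set.mem_iUnion, Set.mem_range]
    exact ⟨fun ⟨W, g, w, sW, hw, h1, h2⟩ => ⟨W, g, sW, ⟨h1, h2⟩, w, hw⟩,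
      fun ⟨W, g, sW, ⟨h1, h2⟩, w, hw⟩ => ⟨W, g, w, sW, hw, h1, h2⟩⟩
  rw [e]
  refine isOpen_iUnion fun W => isOpen_iUnion fun g => isOpen_iUnion fun _ => isOpen_iUnion fun _ => ?_
  haveI := etale_left g
  exact g.left.isOpenMap.isOpen_range

/-- Sections coming from below near every point come from below. -/
theorem exists_glue (U O : X.Etale) (g₀ : O ⟶ U)
    (σ : EtCoh.sect ((EtCoh.pull q).obj F) ((EtCoh.bc q).obj U)) (hO : Set.range O.hom ⊆ Set.range q)
    (h : ∀ o, g₀.left o ∈ Good q F U σ) :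
    ∃ s₀ : EtCoh.sect F O, ((EtCoh.pullPushAdj q).unit.app F).hom.app (op O) s₀ =
      ((EtCoh.pull q).obj F).obj.map ((EtCoh.bc q).map g₀).op σ := by
  classical
  let F' := (EtCoh.pull q).obj F
  let υ : ∀ W : X.Etale, EtCoh.sect F W → EtCoh.sect F' ((EtCoh.bc q).obj W) := fun W x =>
    ((EtCoh.pullPushAdj q).unit.app F).hom.app (op W) x
  let σO := F'.obj.map ((EtCoh.bc q).map g₀).op σ
  have hυ : ∀ {W W' : X.Etale} (r : W' ⟶ W) (x : EtCoh.sect F W),
      υ W' (F.obj.map r.op x) = F'.obj.map ((EtCoh.bc q).map r).op (υ W x) := fun r x =>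
    NatTrans.naturality_apply ((EtCoh.pullPushAdj q).unit.app F).hom r.op x
  let R : Sieve O :=
    { arrows := fun W g => ∃ sW, υ W sW = F'.obj.map ((EtCoh.bc q).map g).op σO
      downward_closed := fun {W W' g} ⟨sW, hs⟩ r => ⟨F.obj.map r.op sW, by
        rw [hυ, hs, ← Functor.map_comp_apply F'.obj, ← op_comp, ← Functor.map_comp]⟩ }
  have hsub : ∀ {W : X.Etale} (g : W ⟶ O), Set.range W.hom ⊆ Set.range q := fun g => by
    rintro _ ⟨w, rfl⟩
    exact hO ⟨g.left w, (Scheme.Hom.comp_apply _ _ _).symm.trans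
      (congrArg (fun k => k w) (MorphismProperty.Over.w g))⟩
  have hpts : ∀ o : O.left, ∃ (W : X.Etale) (g : W ⟶ O), R g ∧ o ∈ Set.range g.left := by
    intro o
    obtain ⟨W, g, w, sW, hw, -, hs⟩ := h o
    obtain ⟨z, hz, -⟩ := Scheme.Pullback.exists_preimage_pullback (f := g₀.left) (g := g.left) o w hw.symm
    haveI := etale_left g
    haveI : AlgebraicGeometry.Etale O.hom := O.prop
    haveI : AlgebraicGeometry.Etale (pullback.fst g₀.left g.left ≫ O.hom) := inferInstance
    let P : X.Etale := Scheme.Etale.mk (pullback.fst g₀.left g.left ≫ O.hom)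
    let p₁ : P ⟶ O := MorphismProperty.Over.homMk (pullback.fst g₀.left g.left) rfl
    let p₂ : P ⟶ W := MorphismProperty.Over.homMk (pullback.snd g₀.left g.left) (by
      show pullback.snd g₀.left g.left ≫ W.hom = pullback.fst g₀.left g.left ≫ O.hom
      rw [← MorphismProperty.Over.w g, ← MorphismProperty.Over.w g₀, ← Category.assoc, ← Category.assoc]
      exact congrArg (· ≫ U.hom) pullback.condition.symm)
    have e : p₁ ≫ g₀ = p₂ ≫ g := MorphismProperty.Over.Hom.ext pullback.condition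
    refine ⟨P, p₁, ⟨F.obj.map p₂.op sW, ?_⟩, z, hz⟩
    rw [hυ]
    refine (congrArg (F'.obj.map ((EtCoh.bc q).map p₂).op) hs).trans ?_
    show _ = F'.obj.map _ (F'.obj.map _ σ)
    rw [← Functor.map_comp_apply F'.obj, ← Functor.map_comp_apply F'.obj, ← op_comp, ← op_comp, ← Functor.map_comp,
      ← Functor.map_comp, e]
  have hR : R ∈ X.smallEtaleTopology O := by
    let ι := {k : Σ W : X.Etale, (W ⟶ O) // R k.2}
    have hι : Sieve.ofArrows (fun k : ι => k.1.1) (fun k => k.1.2) ∈ X.smallEtaleTopology O := by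
      rw [Scheme.ofArrows_mem_smallEtaleTopology_iff]
      refine Set.eq_univ_of_forall fun o => Set.mem_iUnion.2 ?_
      obtain ⟨W, g, hg, ho⟩ := hpts o
      exact ⟨⟨⟨W, g⟩, hg⟩, ho⟩
    refine X.smallEtaleTopology.superset_covering ?_ hι
    rw [Sieve.ofArrows, Sieve.generate_le_iff]
    rintro _ _ ⟨k⟩
    exact k.2
  have hinj : ∀ {W : X.Etale}, Set.range W.hom ⊆ Set.range q → ∀ {a b : EtCoh.sect F W}, υ W a = υ W b → a = b := by
    intro W hW a b e
    refine sub_eq_zero.1 (eq_zero_of_unit q F W hW _ ?_)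
    exact (map_sub _ a b).trans (sub_eq_zero.2 e)
  have hsh := ((isSheaf_iff_isSheaf_of_type _ _).1
    ((sheafCompose X.smallEtaleTopology (forget AddCommGrpCat.{u + 1})).obj F).property) R hR
  have hcomp : ∀ {A B : X.Etale} (a : A ⟶ B) (f : B ⟶ O) (y : EtCoh.sect F' ((EtCoh.bc q).obj O)),
      F'.obj.map ((EtCoh.bc q).map a).op (F'.obj.map ((EtCoh.bc q).map f).op y) =
        F'.obj.map ((EtCoh.bc q).map (a ≫ f)).op y := fun a f y => by
    rw [← Functor.map_comp_apply, ← op_comp, ← Functor.map_comp]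
  let x : Presieve.FamilyOfElements (F.obj ⋙ forget AddCommGrpCat.{u + 1}) R.arrows := fun W g hg => Classical.choose hg
  have hx : x.Compatible := by
    intro W₁ W₂ Z a₁ a₂ f₁ f₂ h₁ h₂ e
    refine hinj (hsub (a₁ ≫ f₁)) ?_
    show υ Z (F.obj.map a₁.op (Classical.choose h₁)) = υ Z (F.obj.map a₂.op (Classical.choose h₂))
    rw [hυ, hυ, Classical.choose_spec h₁, Classical.choose_spec h₂, hcomp, hcomp, e]
  obtain ⟨s₀, hs₀, -⟩ := hsh x hx
  refine ⟨s₀, sub_eq_zero.1 (eq_zero_of_supp (F := F') (U := (EtCoh.bc q).obj O)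
    (s := υ O s₀ - σO) (Set.eq_empty_iff_forall_notMem.2 fun y hy => ?_))⟩
  obtain ⟨W, g, hg, w, hw⟩ := hpts (bcFst q O y)
  obtain ⟨z, hz, -⟩ := Scheme.exists_preimage_of_isPullback (EtCoh.isPullback_bc_map q g) y w hw.symm
  rw [← hz, ← mem_sectSupp_map_iff] at hy
  rw [show F'.obj.map ((EtCoh.bc q).map g).op (υ O s₀ - σO) = 0 from ?_, ShriekLib.sectSupp_zero] at hy
  · exact hy
  refine (map_sub _ _ _).trans (sub_eq_zero.2 ((hυ g s₀).symm.trans ?_))
  exact (congrArg (υ W) (hs₀ g hg)).trans (Classical.choose_spec hg)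

variable {F q} (c : C ⟶ X)

/-- A point of the fibre is good. -/
theorem mem_good_of_fibre {X₀ : Scheme.{u}} (π : X'' ⟶ X₀) [IsProper π] (ι : X₀ ⟶ X) [IsOpenImmersion ι]
    (hq : q = π ≫ ι) (hrange : Set.range ι ⊆ Set.range q) (U : X.Etale)
    (σ : EtCoh.sect ((EtCoh.pull q).obj F) ((EtCoh.bc q).obj U)) (m : C ⟶ U.left) (hm : m ≫ U.hom = c)
    (t : EtCoh.sect ((EtCoh.pull c).obj F) (EtCoh.top C))
    (M : pullback c q ⟶ ((EtCoh.bc q).obj U).left) (hM₁ : M ≫ bcFst q U = pullback.fst c q ≫ m)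
    (hM₂ : M ≫ ((EtCoh.bc q).obj U).hom = pullback.snd c q)
    (hσ : trans (pullback.condition : pullback.fst c q ≫ c = pullback.snd c q ≫ q) F t =
      adjTop (rfl : pullback.snd c q ≫ q = pullback.snd c q ≫ q) F (restrSec M hM₂ ((EtCoh.pull q).obj F) σ))
    (z : C) (hz : c z ∈ Set.range q) : m z ∈ Good q F U σ := by
  classical
  let p := pullback.fst c q
  let c'' := pullback.snd c q
  let g₃ := c'' ≫ q
  let G := (EtCoh.pull c).obj F
  let F'' := (EtCoh.pull q).obj F
  let P₃ := (EtCoh.pull g₃).obj F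
  let X₀' : X.Opens := ι.opensRange
  let U' : X.Etale := openSub U (U.hom ⁻¹ᵁ X₀')
  let ζ := geomPt z
  have hz0 : c z ∈ Set.range ι := by
    obtain ⟨y, hy⟩ := hz
    exact ⟨π y, by rw [← hy, hq, Scheme.Hom.comp_apply]⟩
  let lU : (Scheme.pointSmallEtale (ζ ≫ c)).fiber.obj U := Over.homMk (ζ ≫ m) (by
    show (ζ ≫ m) ≫ U.hom = ζ ≫ c
    rw [Category.assoc, hm])
  have hlU0 : liftHom (ζ ≫ c) lU default = m z := (Scheme.Hom.comp_apply ζ m default).trans (congrArg m (geomPt_default z))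
  have hmem : m z ∈ (U.hom ⁻¹ᵁ X₀' : U.left.Opens) := by
    show U.hom (m z) ∈ Set.range ι
    exact ((Scheme.Hom.comp_apply m U.hom z).symm.trans (congrArg (fun k : C ⟶ X => k z) hm)) ▸ hz0
  obtain ⟨l', hl'⟩ := exists_fiber_map_eq (ζ ≫ c) (openIncl U (U.hom ⁻¹ᵁ X₀')) lU (⟨m z, hmem⟩ : (U.hom ⁻¹ᵁ X₀').toScheme)
    hlU0.symm
  obtain ⟨x, hx⟩ := (bijective_unitStalk c ζ F).2 (germ ζ G (topLift ζ) t)
  obtain ⟨W₀, l₀, s₀, rfl⟩ := (Scheme.pointSmallEtale (ζ ≫ c)).toPresheafFiber_jointly_surjective x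
  haveI : AlgebraicGeometry.Etale W₀.hom := W₀.prop
  haveI : AlgebraicGeometry.Etale U'.hom := U'.prop
  haveI : AlgebraicGeometry.Etale (pullback.fst W₀.hom U'.hom ≫ W₀.hom) := inferInstance
  let W : X.Etale := Scheme.Etale.mk (pullback.fst W₀.hom U'.hom ≫ W₀.hom)
  let r₀ : W ⟶ W₀ := MorphismProperty.Over.homMk (pullback.fst W₀.hom U'.hom) rfl
  let r' : W ⟶ U' := MorphismProperty.Over.homMk (pullback.snd W₀.hom U'.hom) pullback.condition.symm
  let g : W ⟶ U := r' ≫ openIncl U (U.hom ⁻¹ᵁ X₀')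
  let lW : (Scheme.pointSmallEtale (ζ ≫ c)).fiber.obj W := Over.homMk
    (pullback.lift (liftHom _ l₀) (liftHom _ l') ((liftHom_comp _ l₀).trans (liftHom_comp _ l').symm)) (by
      show pullback.lift _ _ _ ≫ pullback.fst W₀.hom U'.hom ≫ W₀.hom = ζ ≫ c
      rw [pullback.lift_fst_assoc]; exact liftHom_comp _ l₀)
  have hlW₀ : (Scheme.pointSmallEtale (ζ ≫ c)).fiber.map r₀ lW = l₀ :=
    Over.OverMorphism.ext (pullback.lift_fst _ _ _)
  have hlWg : liftHom (ζ ≫ c) lW ≫ g.left = ζ ≫ m := by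
    have e1 : liftHom (ζ ≫ c) lW ≫ r'.left = liftHom (ζ ≫ c) l' := pullback.lift_snd _ _ _
    show liftHom (ζ ≫ c) lW ≫ r'.left ≫ (openIncl U (U.hom ⁻¹ᵁ X₀')).left = _
    rw [← Category.assoc, e1]
    exact (liftHom_map _ _ l').symm.trans (congrArg (fun k => liftHom (ζ ≫ c) k) hl')
  have hWq : Set.range W.hom ⊆ Set.range q := by
    refine Set.Subset.trans ?_ hrange
    rintro _ ⟨w, rfl⟩
    refine ((Scheme.Hom.comp_apply _ _ _).symm.trans (congrArg (fun k => k w) (MorphismProperty.Over.w r'))) ▸ ?_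
    exact (r'.left w : (U.hom ⁻¹ᵁ X₀').toScheme).2
  let sW : EtCoh.sect F W := F.obj.map r₀.op s₀
  -- the comparison object on the fibre
  haveI := etale_left g
  haveI : AlgebraicGeometry.Etale (pullback.fst m g.left) := inferInstance
  let A : C.Etale := Scheme.Etale.mk (pullback.fst m g.left)
  let la : (Scheme.pointSmallEtale ζ).fiber.obj A := Over.homMk (pullback.lift ζ (liftHom _ lW) hlWg.symm)
    (pullback.lift_fst _ _ _)
  let ρ₁ : A ⟶ EtCoh.top C := MorphismProperty.Over.homMk (pullback.fst m g.left) (Category.comp_id _)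
  let ρ₂ : A ⟶ (EtCoh.bc c).obj W := MorphismProperty.Over.homMk
    (pullback.lift (pullback.snd m g.left) (pullback.fst m g.left) (by
      rw [← MorphismProperty.Over.w g, ← hm, ← Category.assoc, ← Category.assoc, pullback.condition]))
    (pullback.lift_snd _ _ _)
  let e : EtCoh.sect G A := G.obj.map ρ₁.op t - G.obj.map ρ₂.op (((EtCoh.pullPushAdj c).unit.app F).hom.app (op W) sW)
  have he : liftHom ζ la default ∉ EtShriek.sectSupp G A e := by
    rw [← germ_eq_zero_iff]
    refine (map_sub _ _ _).trans (sub_eq_zero.2 ?_)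
    refine (germ_map ζ G ρ₁ la t).trans (Eq.trans ?_ (germ_map ζ G ρ₂ la _).symm)
    rw [show (Scheme.pointSmallEtale ζ).fiber.map ρ₁ la = topLift ζ from Over.OverMorphism.ext (pullback.lift_fst _ _ _),
      show (Scheme.pointSmallEtale ζ).fiber.map ρ₂ la = liftBc c ζ W lW from fiber_bc_ext c ζ (by
        rw [liftHom_map, liftHom_liftBc_fst, Category.assoc]
        show pullback.lift ζ (liftHom _ lW) hlWg.symm ≫ pullback.lift _ _ _ ≫ pullback.fst _ _ = _
        rw [pullback.lift_fst, pullback.lift_snd])]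
    refine hx.symm.trans ?_
    refine Eq.trans ?_ (ConcreteCategory.congr_hom (toPresheafFiber_unitStalk c ζ F W lW) sW)
    refine congrArg (unitStalk c ζ F) ?_
    rw [← hlW₀]
    exact ((Scheme.pointSmallEtale (ζ ≫ c)).toPresheafFiber_w_apply r₀ lW F.obj s₀).symm
  -- compare on the cover
  let υW : EtCoh.sect F'' ((EtCoh.bc q).obj W) := ((EtCoh.pullPushAdj q).unit.app F).hom.app (op W) sW
  let σW : EtCoh.sect F'' ((EtCoh.bc q).obj W) := F''.obj.map ((EtCoh.bc q).map g).op σ
  let d₀ : EtCoh.sect F'' ((EtCoh.bc q).obj W) := σW - υW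
  let w₀ := liftHom (ζ ≫ c) lW default
  have key : ∀ w'', bcFst q W w'' = w₀ → w'' ∉ EtShriek.sectSupp F'' ((EtCoh.bc q).obj W) d₀ := by
    intro w'' hw'' hd
    let O₂ := (EtCoh.bc p).obj A
    have hψ : (bcFst p A ≫ pullback.snd m g.left) ≫ W.hom = (O₂.hom ≫ c'') ≫ q := by
      have h1 : bcFst p A ≫ pullback.fst m g.left = O₂.hom ≫ p := pullback.condition
      have h2 : pullback.snd m g.left ≫ W.hom = pullback.fst m g.left ≫ c := by
        rw [← MorphismProperty.Over.w g, ← hm, ← Category.assoc, ← Category.assoc, pullback.condition]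
      rw [Category.assoc, h2, ← Category.assoc, h1, Category.assoc, Category.assoc]
      exact congrArg (O₂.hom ≫ ·) pullback.condition
    let ψ : O₂ ⟶ (EtCoh.bc c'').obj ((EtCoh.bc q).obj W) := MorphismProperty.Over.homMk
      (pullback.lift (pullback.lift (bcFst p A ≫ pullback.snd m g.left) (O₂.hom ≫ c'') hψ) O₂.hom
        (pullback.lift_snd _ _ _))
      (pullback.lift_snd _ _ _)
    let k : O₂.left ⟶ ((EtCoh.bc q).obj W).left := ψ.left ≫ bcFst c'' ((EtCoh.bc q).obj W)
    have hk : k = pullback.lift (bcFst p A ≫ pullback.snd m g.left) (O₂.hom ≫ c'') hψ := pullback.lift_fst _ _ _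
    have sqA : IsPullback k (bcFst p A) (bcFst q W) (pullback.snd m g.left) := by
      refine IsPullback.of_right (h₁₁ := k) (h₁₂ := pullback.snd W.hom q) ?_
        (by rw [hk]; exact pullback.lift_fst _ _ _) (IsPullback.of_hasPullback W.hom q).flip
      rw [show k ≫ pullback.snd W.hom q = O₂.hom ≫ c'' by rw [hk]; exact pullback.lift_snd _ _ _,
        show pullback.snd m g.left ≫ W.hom = A.hom ≫ c by
          show _ = pullback.fst m g.left ≫ c
          rw [← MorphismProperty.Over.w g, ← hm, ← Category.assoc, ← Category.assoc, pullback.condition]]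
      exact (IsPullback.of_hasPullback A.hom p).flip.paste_horiz (IsPullback.of_hasPullback c q).flip
    obtain ⟨b, hb₁, hb₂⟩ := Scheme.exists_preimage_of_isPullback sqA w'' (liftHom ζ la default) (hw''.trans (by
      rw [← Scheme.Hom.comp_apply]
      exact congrArg (fun k => k default) (pullback.lift_snd ζ (liftHom _ lW) hlWg.symm).symm))
    let T₁ := transHom (pullback.condition : p ≫ c = g₃) F
    let T₂ := transHom (rfl : c'' ≫ q = g₃) F
    have h1 : T₁.hom.app (op (EtCoh.top C)) t =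
        P₃.obj.map ((EtCore.bcTopIso p).hom ≫ secMor M hM₂).op (T₂.hom.app (op ((EtCoh.bc q).obj U)) σ) := by
      refine (bcTopIso_hom_inv (pullback.condition : p ≫ c = g₃) F t).trans ?_
      rw [hσ, op_comp, Functor.map_comp_apply, transHom_app]
      refine congrArg (P₃.obj.map (EtCore.bcTopIso p).hom.op) ?_
      exact NatTrans.naturality_apply (transAdj (rfl : c'' ≫ q = g₃) F).hom (secMor M hM₂).op _
    have harr : (EtCoh.bc p).map ρ₁ ≫ (EtCore.bcTopIso p).hom ≫ secMor M hM₂ =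
        ψ ≫ (EtCoh.bc c'').map ((EtCoh.bc q).map g) := by
      refine EtLimLib.bc_ext c'' ?_
      have e1 : ((EtCoh.bc p).map ρ₁).left ≫ (EtCore.bcTopIso p).hom.left = O₂.hom := by
        have h' := MorphismProperty.Over.w ((EtCoh.bc p).map ρ₁ ≫ (EtCore.bcTopIso p).hom)
        exact (Category.comp_id _).symm.trans h'
      show (((EtCoh.bc p).map ρ₁).left ≫ (EtCore.bcTopIso p).hom.left ≫ (secMor M hM₂).left) ≫ _ =
        (ψ.left ≫ ((EtCoh.bc c'').map ((EtCoh.bc q).map g)).left) ≫ _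
      rw [← Category.assoc ((EtCoh.bc p).map ρ₁).left, e1, Category.assoc, secMor_fst, Category.assoc,
        EtLimLib.bc_map_fst, ← Category.assoc]
      show _ = k ≫ ((EtCoh.bc q).map g).left
      rw [hk]
      apply pullback.hom_ext
      · rw [Category.assoc, Category.assoc]
        refine (congrArg (O₂.hom ≫ ·) hM₁).trans (Eq.trans ?_ (congrArg (_ ≫ ·) (EtLimLib.bc_map_fst q g)).symm)
        rw [pullback.lift_fst_assoc, Category.assoc, ← pullback.condition (f := m) (g := g.left), ← Category.assoc,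
          ← Category.assoc (bcFst p A)]
        exact congrArg (· ≫ m) pullback.condition.symm
      · rw [Category.assoc, Category.assoc]
        refine (congrArg (O₂.hom ≫ ·) hM₂).trans (Eq.trans ?_ (congrArg (_ ≫ ·) (MorphismProperty.Over.w ((EtCoh.bc q).map g))).symm)
        exact (pullback.lift_snd _ _ _).symm
    have harr2 : (EtCoh.bc p).map ρ₂ ≫ EtLimLib.bcSp c p g₃ pullback.condition W =
        ψ ≫ EtLimLib.bcSp q c'' g₃ rfl W := by
      refine EtLimLib.bc_ext g₃ ?_
      show (((EtCoh.bc p).map ρ₂).left ≫ _) ≫ _ = (ψ.left ≫ _) ≫ _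
      rw [Category.assoc, EtLimLib.bcSp_fst, Category.assoc, EtLimLib.bcSp_fst, ← Category.assoc ψ.left,
        ← Category.assoc, EtLimLib.bc_map_fst, Category.assoc]
      show bcFst p A ≫ pullback.lift _ _ _ ≫ pullback.fst W.hom c = k ≫ pullback.fst W.hom q
      rw [hk, pullback.lift_fst, pullback.lift_fst]
    have h3 : T₁.hom.app (op A) e =
        P₃.obj.map ψ.op (T₂.hom.app (op ((EtCoh.bc q).obj W)) d₀) := by
      simp only [e, d₀, map_sub]
      congr 1
      · refine (transHom_map _ F ρ₁ t).trans ?_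
        refine (congrArg (P₃.obj.map ((EtCoh.bc p).map ρ₁).op) h1).trans ?_
        refine Eq.trans ?_ (congrArg (P₃.obj.map ψ.op) (transHom_map (rfl : c'' ≫ q = g₃) F ((EtCoh.bc q).map g) σ)).symm
        rw [← Functor.map_comp_apply, ← Functor.map_comp_apply, ← op_comp, ← op_comp, harr]
      · refine (transHom_map _ F ρ₂ _).trans ?_
        refine (congrArg (P₃.obj.map ((EtCoh.bc p).map ρ₂).op) (transHom_unit _ F W sW)).trans ?_
        refine Eq.trans ?_ (congrArg (P₃.obj.map ψ.op) (transHom_unit (rfl : c'' ≫ q = g₃) F W sW)).symm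
        rw [← Functor.map_comp_apply, ← Functor.map_comp_apply, ← op_comp, ← op_comp, harr2]
    have h4 : b ∈ EtShriek.sectSupp P₃ O₂ (T₁.hom.app (op A) e) := by
      rw [h3]
      refine (mem_sectSupp_map_iff P₃ ψ _ b).2 ?_
      rw [sectSupp_transHom]
      show bcFst c'' _ (ψ.left b) ∈ EtShriek.sectSupp F'' ((EtCoh.bc q).obj W) d₀
      refine (congrArg (· ∈ EtShriek.sectSupp F'' ((EtCoh.bc q).obj W) d₀) ?_).mpr hd
      exact (Scheme.Hom.comp_apply _ _ _).symm.trans hb₁
    have h5 := (sectSupp_transHom (pullback.condition : p ≫ c = g₃) F A e).le h4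
    exact he (hb₂ ▸ h5)
  -- shrink
  haveI : IsProper (bcFst q W) := by
    subst hq
    refine isProper_bcFst_of_range π ι W (fun a ha => ?_)
    obtain ⟨y, hy⟩ := hWq ha
    exact ⟨π y, (Scheme.Hom.comp_apply π ι y).symm.trans hy⟩
  let O : W.left.Opens := ⟨(bcFst q W '' EtShriek.sectSupp F'' ((EtCoh.bc q).obj W) d₀)ᶜ,
    ((bcFst q W).isClosedMap _ (isClosed_sectSupp F'' _ d₀)).isOpen_compl⟩
  have hw₀ : w₀ ∈ O := fun ⟨w'', h1, h2⟩ => key w'' h2 h1
  refine ⟨openSub W O, openIncl W O ≫ g, ⟨w₀, hw₀⟩, F.obj.map (openIncl W O).op sW, ?_, ?_, ?_⟩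
  · show g.left w₀ = m z
    exact (Scheme.Hom.comp_apply _ _ _).symm.trans ((congrArg (fun k => k default) hlWg).trans hlU0)
  · rintro _ ⟨w, rfl⟩
    exact hWq ⟨(openIncl W O).left w, (Scheme.Hom.comp_apply _ _ _).symm.trans
      (congrArg (fun k => k w) (MorphismProperty.Over.w (openIncl W O)))⟩
  · refine (NatTrans.naturality_apply ((EtCoh.pullPushAdj q).unit.app F).hom (openIncl W O).op sW).trans ?_
    show F''.obj.map ((EtCoh.bc q).map (openIncl W O)).op _ = F''.obj.map _ σ
    rw [Functor.map_comp, op_comp, Functor.map_comp_apply]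
    refine (sub_eq_zero.1 ((map_sub _ _ _).symm.trans (map_eq_zero (s := d₀) _ fun v hv => ?_))).symm
    exact (bcFst q (openSub W O) v : O.toScheme).2 ⟨_, hv, congrArg (fun k => k v) (bcFst_map q (openIncl W O))⟩

end Groth.Agent.ShriekFib
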