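import Groth.Agent.ShriekFib.Main
/-!
Stalks of direct images with proper support, functorially.
-/

set_option autoImplicit false
set_option linter.unusedSectionVars false
set_option linter.style.haveILetI false
set_option backward.isDefEq.respectTransparency false
set_option backward.isDefEq.respectTransparency.types false

universe u

open CategoryTheory CategoryTheory.Limits AlgebraicGeometry Opposite

noncomputable section

namespace Groth.Agent.ShriekFib

open EtPtsLib StrictLocLib

variable {k : Type u} [Field k] {Z : Scheme.{u}} (p : Z ⟶ Spec (CommRingCat.of k)) [LocallyOfFiniteType p]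

theorem app_mem_H0c {F G : EtCoh.Ab Z} (α : F ⟶ G) {s : EtCoh.sect F (EtCoh.top Z)}
    (hs : s ∈ EtShriek.H0c p F) : α.hom.app (op (EtCoh.top Z)) s ∈ EtShriek.H0c p G := by
  rw [ShriekLib.mem_H0c_iff] at hs ⊢
  exact ClSubLib.isProperOver_subset _ hs (isClosed_sectSupp G _ _) (EtShriek.sectSupp_map_subset α _ s)

/-- Sections with compact support, as a functor. -/
def H0cF : EtCoh.Ab Z ⥤ AddCommGrpCat.{u + 1} where
  obj F := AddCommGrpCat.of (EtShriek.H0c p F)
  map {F G} α := AddCommGrpCat.ofHom (((α.hom.app (op (EtCoh.top Z))).hom.comp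
    (EtShriek.H0c p F).subtype).codRestrict (EtShriek.H0c p G) fun s => app_mem_H0c p α s.2)
  map_id F := by ext ⟨s, hs⟩; rfl
  map_comp α β := by ext ⟨s, hs⟩; rfl

variable {X Y C : Scheme.{u}} {Ω : Type u} [Field Ω] [IsSepClosed Ω] (f : X ⟶ Y) (c : C ⟶ X)
  (d : C ⟶ Spec (CommRingCat.of Ω)) (η : Spec (CommRingCat.of Ω) ⟶ Y) (sq : IsPullback c d f η)

theorem phi_naturality {F G : EtCoh.Ab X} (a : F ⟶ G)
    (x : ToType ((Scheme.pointSmallEtale η).presheafFiber.obj (EtShriek.lowerShriekPre f F))) :
    phi f c d η sq G ((Scheme.pointSmallEtale η).presheafFiber.map ((EtShriek.lowerShriekPreFunctor f).map a) x) =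
      (gsecF C).map ((EtCoh.pull c).map a) (phi f c d η sq F x) := by
  obtain ⟨V, l, s, rfl⟩ := (Scheme.pointSmallEtale η).toPresheafFiber_jointly_surjective x
  rw [phi_germ]
  erw [(Scheme.pointSmallEtale η).toPresheafFiber_naturality_apply, phi_germ]
  exact ConcreteCategory.congr_hom (restrSec_natural (toC f c d η sq.w V l) (toC_w f c d η sq.w V l) a) s.1

variable [IsSeparated f] [LocallyOfFiniteType f] [LocallyOfFiniteType d]

/-- Stalks of the presheaf as compactly supported sections. -/
def preStalkEquiv (F : EtCoh.Ab X) :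
    (Scheme.pointSmallEtale η).presheafFiber.obj (EtShriek.lowerShriekPre f F) ≅
      (H0cF d).obj ((EtCoh.pull c).obj F) :=
  (AddEquiv.ofBijective
    (((phi f c d η sq F).hom).codRestrict (EtShriek.H0c d ((EtCoh.pull c).obj F)) (range_phi_subset f c d η sq F))
    ⟨fun _ _ e => phi_injective f c d η sq F (congrArg Subtype.val e), fun t => by
      obtain ⟨V, l, s, hs⟩ := exists_extend f c d η sq F t.1 t.2
      exact ⟨(Scheme.pointSmallEtale η).toPresheafFiber V l (EtShriek.lowerShriekPre f F) s,
        Subtype.ext ((phi_germ f c d η sq F V l s).trans hs)⟩⟩).toAddCommGrpIso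

/-- The stalk of the direct image with proper support is the compactly supported sections of the fibre. -/
def stalkNatIso : EtShriek.lowerShriek f ⋙ EtCoh.stalk η ≅ EtCoh.pull c ⋙ H0cF d :=
  Functor.isoWhiskerLeft (EtShriek.lowerShriekPreFunctor f)
      ((Scheme.pointSmallEtale η).presheafToSheafCompSheafFiberIso AddCommGrpCat.{u + 1}) ≪≫
    NatIso.ofComponents (fun F => preStalkEquiv f c d η sq F) fun {F G} a => by
      ext x
      exact Subtype.ext (phi_naturality f c d η sq a x)

end Groth.Agent.ShriekFib
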