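import Groth.Agent.ShriekFib.Supp
import Groth.Agent.ShriekLib.Fibre
import Groth.Agent.ShriekLib.CompactH0
import Groth.Agent.ShriekLib.IsSheaf

/-!
Restriction of sections with proper support to a geometric fibre.
-/

set_option autoImplicit false
set_option linter.unusedSectionVars false
set_option linter.style.haveILetI false
set_option backward.isDefEq.respectTransparency false
set_option backward.isDefEq.respectTransparency.types false

universe u

open CategoryTheory CategoryTheory.Limits AlgebraicGeometry Opposite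

noncomputable section

namespace Groth.Agent.ShriekFib

open EtPtsLib StrictLocLib

variable {X Y C : Scheme.{u}} {Ω : Type u} [Field Ω] [IsSepClosed Ω] (f : X ⟶ Y) (c : C ⟶ X)
  (d : C ⟶ Spec (CommRingCat.of Ω)) (η : Spec (CommRingCat.of Ω) ⟶ Y) (sq : IsPullback c d f η)

include sq in
/-- The fibre is the fibre of every neighbourhood. -/
theorem isPullback_toC (V : Y.Etale) (l : (Scheme.pointSmallEtale η).fiber.obj V) :
    IsPullback (toC f c d η sq.w V l) d (bcFst f V) (liftHom η l) := by
  refine IsPullback.of_right (h₁₁ := toC f c d η sq.w V l) (h₁₂ := pullback.snd V.hom f) ?_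
    (toC_fst f c d η sq.w V l) (IsPullback.of_hasPullback V.hom f).flip
  rw [show toC f c d η sq.w V l ≫ pullback.snd V.hom f = c from toC_w f c d η sq.w V l, liftHom_comp]
  exact sq

include sq in
theorem exists_toC_eq (V : Y.Etale) (l : (Scheme.pointSmallEtale η).fiber.obj V)
    (x : ((EtCoh.bc f).obj V).left) (hx : bcFst f V x = liftHom η l default) :
    ∃ z : C, toC f c d η sq.w V l z = x :=
  let ⟨z, hz, _⟩ := Scheme.exists_preimage_of_isPullback (isPullback_toC f c d η sq V l) x default hx
  ⟨z, hz⟩

theorem bcFst_toC (V : Y.Etale) (l : (Scheme.pointSmallEtale η).fiber.obj V) (z : C) :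
    bcFst f V (toC f c d η sq.w V l z) = liftHom η l default := by
  refine (Scheme.Hom.comp_apply _ _ _).symm.trans ((congrArg (fun k => k z) (toC_fst f c d η sq.w V l)).trans ?_)
  refine (Scheme.Hom.comp_apply _ _ _).trans (congrArg _ ?_)
  exact Subsingleton.elim (α := PrimeSpectrum Ω) _ _

include sq in
/-- Shrink a neighbourhood away from a closed set. -/
theorem exists_shrink (V : Y.Etale) (l : (Scheme.pointSmallEtale η).fiber.obj V) (O : V.left.Opens)
    (hO : liftHom η l default ∈ O) :
    ∃ l' : (Scheme.pointSmallEtale η).fiber.obj (openSub V O),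
      (Scheme.pointSmallEtale η).fiber.map (openIncl V O) l' = l :=
  exists_fiber_map_eq η (openIncl V O) l (⟨_, hO⟩ : O.toScheme) rfl

/-- Restriction of germs of sections with proper support to the fibre. -/
def phi (F : EtCoh.Ab X) :
    (Scheme.pointSmallEtale η).presheafFiber.obj (EtShriek.lowerShriekPre f F) ⟶
      (gsecF C).obj ((EtCoh.pull c).obj F) :=
  (Scheme.pointSmallEtale η).presheafFiber.map (EtShriek.lowerShriekPreι f F) ≫ rho f c d η sq.w F

theorem phi_germ (F : EtCoh.Ab X) (V : Y.Etale) (l : (Scheme.pointSmallEtale η).fiber.obj V)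
    (s : EtShriek.shriekSubgroup f F V) :
    phi f c d η sq F ((Scheme.pointSmallEtale η).toPresheafFiber V l (EtShriek.lowerShriekPre f F) s) =
      restrSec (toC f c d η sq.w V l) (toC_w f c d η sq.w V l) F s.1 := by
  refine (ConcreteCategory.comp_apply _ _ _).trans ?_
  refine (congrArg (rho f c d η sq.w F) ((Scheme.pointSmallEtale η).toPresheafFiber_naturality_apply
    (EtShriek.lowerShriekPreι f F) V l s)).trans ?_
  exact rho_germ f c d η sq.w V l F s.1

variable [LocallyOfFiniteType f]

include sq in
/-- A section with proper support restricts to a section with compact support. -/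
theorem restrSec_mem_H0c [LocallyOfFiniteType d] (F : EtCoh.Ab X) (V : Y.Etale)
    (l : (Scheme.pointSmallEtale η).fiber.obj V) (s : EtShriek.shriekSubgroup f F V) :
    restrSec (toC f c d η sq.w V l) (toC_w f c d η sq.w V l) F s.1 ∈ EtShriek.H0c d ((EtCoh.pull c).obj F) := by
  haveI := ShriekLib.lft_prV f V
  rw [ShriekLib.mem_H0c_iff]
  refine (congrArg (ClSub.IsProperOver (d : (EtCoh.top C).left ⟶ _))
    (sectSupp_restrSec _ (toC_w f c d η sq.w V l) F s.1)).mpr ?_
  exact ClSubLib.isProperOver_baseChange (EtShriek.prV f V) _ _ d (isPullback_toC f c d η sq V l)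
    ((ShriekLib.mem_shriekSubgroup_iff F f V s.1).1 s.2)

theorem range_phi_subset [LocallyOfFiniteType d] (F : EtCoh.Ab X) (a) :
    phi f c d η sq F a ∈ EtShriek.H0c d ((EtCoh.pull c).obj F) := by
  obtain ⟨V, l, s, rfl⟩ := (Scheme.pointSmallEtale η).toPresheafFiber_jointly_surjective a
  rw [phi_germ]
  exact restrSec_mem_H0c f c d η sq F V l s

/-- Restriction to the fibre is injective on germs of sections with proper support. -/
theorem phi_injective (F : EtCoh.Ab X) : Function.Injective (phi f c d η sq F) := by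
  refine (injective_iff_map_eq_zero _).2 fun a ha => ?_
  obtain ⟨V, l, s, rfl⟩ := (Scheme.pointSmallEtale η).toPresheafFiber_jointly_surjective a
  rw [phi_germ] at ha
  haveI := ShriekLib.lft_prV f V
  let S := EtShriek.sectSupp F ((EtCoh.bc f).obj V) s.1
  obtain ⟨T, i, hi, -, hr, hip⟩ :=
    ClSubLib.exists_model _ ((ShriekLib.mem_shriekSubgroup_iff F f V s.1).1 s.2)
  haveI := hi
  haveI := hip
  let O : V.left.Opens := ⟨(EtShriek.prV f V '' S)ᶜ, by
    rw [show EtShriek.prV f V '' S = Set.range (i ≫ EtShriek.prV f V) by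
      rw [show S = Set.range i from hr.symm, ← Set.range_comp]; rfl]
    exact (i ≫ EtShriek.prV f V).isClosedMap.isClosed_range.isOpen_compl⟩
  have hl : liftHom η l default ∈ O := by
    rintro ⟨x, hx, hxl⟩
    obtain ⟨z, rfl⟩ := exists_toC_eq f c d η sq V l x hxl
    have h := sectSupp_restrSec _ (toC_w f c d η sq.w V l) F s.1
    rw [ha, ShriekLib.sectSupp_zero] at h
    exact (Set.eq_empty_iff_forall_notMem.1 h.symm) z hx
  obtain ⟨lO, hlO⟩ := exists_shrink f c d η sq V l O hl
  rw [← hlO, ← (Scheme.pointSmallEtale η).toPresheafFiber_w_apply (openIncl V O) lO]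
  refine (congrArg ((Scheme.pointSmallEtale η).toPresheafFiber _ lO (EtShriek.lowerShriekPre f F))
    (Subtype.ext ?_)).trans (map_zero _)
  change F.obj.map ((EtCoh.bc f).map (openIncl V O)).op s.1 = 0
  refine map_eq_zero _ fun v hv => ?_
  exact (bcFst f (openSub V O) v : O.toScheme).2 ⟨_, hv, congrArg (fun k => k v) (bcFst_map f (openIncl V O))⟩

/-- Compactly supported sections of the fibre as germs, given that all of them extend. -/
def stalkEquiv [IsSeparated f] [LocallyOfFiniteType d] (F : EtCoh.Ab X)
    (h : ∀ t ∈ EtShriek.H0c d ((EtCoh.pull c).obj F), ∃ (V : Y.Etale) (l : (Scheme.pointSmallEtale η).fiber.obj V)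
      (s : EtShriek.shriekSubgroup f F V), restrSec (toC f c d η sq.w V l) (toC_w f c d η sq.w V l) F s.1 = t) :
    (EtCoh.stalk η).obj ((EtShriek.lowerShriek f).obj F) ≅
      AddCommGrpCat.of (EtShriek.H0c d ((EtCoh.pull c).obj F)) :=
  haveI := CategoryTheory.isIso_toSheafify _ (ShriekLib.isSheaf_lowerShriekPre F f)
  ((Scheme.pointSmallEtale η).presheafFiber.mapIso
      (asIso (CategoryTheory.toSheafify Y.smallEtaleTopology (EtShriek.lowerShriekPre f F)))).symm ≪≫
    (AddEquiv.ofBijective
      (((phi f c d η sq F).hom).codRestrict (EtShriek.H0c d ((EtCoh.pull c).obj F)) (range_phi_subset f c d η sq F))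
      ⟨fun _ _ e => phi_injective f c d η sq F (congrArg Subtype.val e), fun t => by
        obtain ⟨V, l, s, hs⟩ := h t.1 t.2
        exact ⟨(Scheme.pointSmallEtale η).toPresheafFiber V l (EtShriek.lowerShriekPre f F) s,
          Subtype.ext ((phi_germ f c d η sq F V l s).trans hs)⟩⟩).toAddCommGrpIso

end Groth.Agent.ShriekFib
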