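import Groth.Agent.ShriekLib.Excision
import Groth.Agent.StrictLocLib.ProperStalk
import Groth.Agent.EtPtsLib.Agree

/-!
Supports of sections under inverse and direct images.
-/

set_option autoImplicit false
set_option linter.unusedSectionVars false
set_option backward.isDefEq.respectTransparency false
set_option backward.isDefEq.respectTransparency.types false

universe u

open CategoryTheory CategoryTheory.Limits AlgebraicGeometry Opposite

namespace Groth.Agent.ShriekFib

open EtPtsLib StrictLocLib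

variable {X T : Scheme.{u}}

theorem mem_sectSupp_map_iff (F : EtCoh.Ab X) {U V : X.Etale} (g : V ⟶ U) (s : EtCoh.sect F U) (v : V.left) :
    v ∈ EtShriek.sectSupp F V (F.obj.map g.op s) ↔ g.left v ∈ EtShriek.sectSupp F U s := by
  rw [ShriekLib.sectSupp_map]; rfl

theorem eq_zero_of_supp {F : EtCoh.Ab X} {U : X.Etale} {s : EtCoh.sect F U}
    (h : EtShriek.sectSupp F U s = ∅) : s = 0 :=
  sect_ext F U s 0 fun Ω _ _ ξ l => by
    refine ((germ_eq_zero_iff ξ F l s).2 ?_).trans (map_zero _).symm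
    rw [h]; exact Set.notMem_empty _

theorem supp_eq_empty_iff {F : EtCoh.Ab X} {U : X.Etale} {s : EtCoh.sect F U} :
    EtShriek.sectSupp F U s = ∅ ↔ s = 0 :=
  ⟨eq_zero_of_supp, fun h => h ▸ ShriekLib.sectSupp_zero F U⟩

/-- A section vanishes over objects which avoid its support. -/
theorem map_eq_zero {F : EtCoh.Ab X} {U V : X.Etale} (g : V ⟶ U) {s : EtCoh.sect F U}
    (h : ∀ v, g.left v ∉ EtShriek.sectSupp F U s) : F.obj.map g.op s = 0 :=
  eq_zero_of_supp (Set.eq_empty_iff_forall_notMem.2 fun v hv => h v ((mem_sectSupp_map_iff F g s v).1 hv))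

/-- The support of an inverse image is the inverse image of the support. -/
theorem sectSupp_unit (q : T ⟶ X) (F : EtCoh.Ab X) (U : X.Etale) (s : EtCoh.sect F U) :
    EtShriek.sectSupp ((EtCoh.pull q).obj F) ((EtCoh.bc q).obj U)
        (((EtCoh.pullPushAdj q).unit.app F).hom.app (op U) s) =
      bcFst q U ⁻¹' EtShriek.sectSupp F U s := by
  ext y
  obtain ⟨l, hl⟩ := exists_lift_geomPt y
  let ζ := geomPt (((EtCoh.bc q).obj U).hom y)
  let l' : (Scheme.pointSmallEtale (ζ ≫ q)).fiber.obj U := Over.homMk (liftHom ζ l ≫ bcFst q U) (by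
    change (liftHom ζ l ≫ pullback.fst U.hom q) ≫ U.hom = ζ ≫ q
    rw [Category.assoc, pullback.condition, ← Category.assoc]
    exact congrArg (· ≫ q) (liftHom_comp ζ l))
  have hll : liftBc q ζ U l' = l := fiber_bc_ext q ζ (liftHom_liftBc_fst q ζ U l')
  have hpt : bcFst q U y = liftHom (ζ ≫ q) l' default := by
    show _ = (liftHom ζ l ≫ bcFst q U) default
    rw [Scheme.Hom.comp_apply]; exact congrArg _ hl.symm
  refine Iff.trans (Iff.of_eq (congrArg (· ∈ EtShriek.sectSupp ((EtCoh.pull q).obj F) ((EtCoh.bc q).obj U)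
      (((EtCoh.pullPushAdj q).unit.app F).hom.app (op U) s)) hl.symm)) ?_
  refine Iff.trans ?_ (Iff.of_eq (congrArg (· ∈ EtShriek.sectSupp F U s) hpt.symm))
  refine ((ShriekLib.mem_sectSupp_iff ((EtCoh.pull q).obj F) ζ l _).trans ?_).trans
    (ShriekLib.mem_sectSupp_iff F (ζ ≫ q) l' s).symm
  refine not_congr ?_
  have h := germ_unit_eq_iff q ζ F l l' hll s 0
  have e1 : germ ζ ((EtCoh.pull q).obj F) l (((EtCoh.pullPushAdj q).unit.app F).hom.app (op U) 0) = 0 :=
    (congrArg (germ ζ ((EtCoh.pull q).obj F) l) (map_zero _)).trans (map_zero _)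
  have e2 : germ (ζ ≫ q) F l' 0 = 0 := map_zero _
  rw [e1, e2] at h
  exact h

/-- The support of a section after a map into a direct image lies over the support. -/
theorem sectSupp_app_push_subset {G : EtCoh.Ab X} (p : T ⟶ X) {H : EtCoh.Ab T} (α : G ⟶ (EtCoh.push p).obj H)
    (U : X.Etale) (s : EtCoh.sect G U) :
    EtShriek.sectSupp H ((EtCoh.bc p).obj U) (α.hom.app (op U) s) ⊆ bcFst p U ⁻¹' EtShriek.sectSupp G U s := by
  intro y hy
  by_contra h
  simp only [Set.mem_preimage, EtShriek.sectSupp, Set.mem_ofPred_eq, not_forall, ne_eq, not_not] at h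
  obtain ⟨W, g, ⟨w, hw⟩, hs⟩ := h
  obtain ⟨z, hz, -⟩ := Scheme.exists_preimage_of_isPullback (EtCoh.isPullback_bc_map p g) y w hw.symm
  refine hy _ ((EtCoh.bc p).map g) ⟨z, hz⟩ ?_
  refine (ConcreteCategory.congr_hom (α.hom.naturality g.op) s).symm.trans ?_
  exact (congrArg (α.hom.app (op W)) hs).trans (map_zero _)

/-- Isomorphisms preserve supports. -/
theorem sectSupp_app_iso {F G : EtCoh.Ab X} (α : F ⟶ G) [IsIso α] (U : X.Etale) (s : EtCoh.sect F U) :
    EtShriek.sectSupp G U (α.hom.app (op U) s) = EtShriek.sectSupp F U s := by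
  refine (EtShriek.sectSupp_map_subset α U s).antisymm ?_
  have h := EtShriek.sectSupp_map_subset (inv α) U (α.hom.app (op U) s)
  rwa [show (inv α).hom.app (op U) (α.hom.app (op U) s) = s from
    (ConcreteCategory.comp_apply _ _ _).symm.trans
      (congrArg (fun m : F ⟶ F => m.hom.app (op U) s) (IsIso.hom_inv_id α))] at h

/-- The support of a restriction to a scheme over the base. -/
theorem sectSupp_restrSec {g : T ⟶ X} {W : X.Etale} (m : T ⟶ W.left) (w : m ≫ W.hom = g) (F : EtCoh.Ab X)
    (s : EtCoh.sect F W) :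
    EtShriek.sectSupp ((EtCoh.pull g).obj F) (EtCoh.top T) (restrSec m w F s) =
      m ⁻¹' EtShriek.sectSupp F W s := by
  refine (ShriekLib.sectSupp_map _ (secMor m w) _).trans ?_
  refine (congrArg (Set.preimage (secMor m w).left) (sectSupp_unit g F W s)).trans ?_
  refine Set.preimage_comp.symm.trans (congrArg (· ⁻¹' EtShriek.sectSupp F W s) (funext fun y => ?_))
  exact (Scheme.Hom.comp_apply _ _ _).symm.trans (congrArg (fun k => k y) (secMor_fst m w))

/-- Zero is detected by the inverse image along a map onto the points in question. -/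
theorem eq_zero_of_unit (q : T ⟶ X) (F : EtCoh.Ab X) (U : X.Etale) (hU : Set.range U.hom ⊆ Set.range q)
    (s : EtCoh.sect F U) (h : ((EtCoh.pullPushAdj q).unit.app F).hom.app (op U) s = 0) : s = 0 := by
  refine eq_zero_of_supp (Set.eq_empty_iff_forall_notMem.2 fun x hx => ?_)
  obtain ⟨t, ht⟩ := hU ⟨x, rfl⟩
  obtain ⟨z, hz, -⟩ := Scheme.Pullback.exists_preimage_pullback (f := U.hom) (g := q) x t ht.symm
  have hs : z ∈ EtShriek.sectSupp ((EtCoh.pull q).obj F) ((EtCoh.bc q).obj U)
      (((EtCoh.pullPushAdj q).unit.app F).hom.app (op U) s) := by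
    rw [sectSupp_unit]; exact (congrArg (· ∈ EtShriek.sectSupp F U s) (show bcFst q U z = x from hz)).mpr hx
  rw [h, ShriekLib.sectSupp_zero] at hs
  exact hs

end Groth.Agent.ShriekFib
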