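import Groth.Agent.ShriekFib.Compact

/-!
Supports of transferred sections; proper base change of étale objects over an open.
-/

set_option autoImplicit false
set_option linter.unusedSectionVars false
set_option linter.style.haveILetI false
set_option backward.isDefEq.respectTransparency false
set_option backward.isDefEq.respectTransparency.types false

universe u

open CategoryTheory CategoryTheory.Limits AlgebraicGeometry Opposite

noncomputable section

namespace Groth.Agent.ShriekFib

open EtPtsLib StrictLocLib

variable {X T T' : Scheme.{u}} {q : T ⟶ X} {t : T' ⟶ T} {g : T' ⟶ X} (hw : t ≫ q = g) (F : EtCoh.Ab X)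

theorem transHom_app (U : T.Etale) (x : EtCoh.sect ((EtCoh.pull q).obj F) U) :
    (transHom hw F).hom.app (op U) x = (transAdj hw F).hom.app (op ((EtCoh.bc t).obj U))
      (((EtCoh.pullPushAdj t).unit.app ((EtCoh.pull q).obj F)).hom.app (op U) x) :=
  congr($(unit_transAdj hw F).hom.app (op U) x).symm

theorem transHom_unit (W : X.Etale) (x : EtCoh.sect F W) :
    (transHom hw F).hom.app (op ((EtCoh.bc q).obj W)) (((EtCoh.pullPushAdj q).unit.app F).hom.app (op W) x) =
      ((EtCoh.pull g).obj F).obj.map (EtLimLib.bcSp q t g hw W).op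
        (((EtCoh.pullPushAdj g).unit.app F).hom.app (op W) x) :=
  congr(($(unit_transHom hw F)).hom.app (op W) x)

theorem transHom_map {U U' : T.Etale} (r : U' ⟶ U) (x : EtCoh.sect ((EtCoh.pull q).obj F) U) :
    (transHom hw F).hom.app (op U') (((EtCoh.pull q).obj F).obj.map r.op x) =
      ((EtCoh.pull g).obj F).obj.map ((EtCoh.bc t).map r).op ((transHom hw F).hom.app (op U) x) :=
  NatTrans.naturality_apply (transHom hw F).hom r.op x

/-- Transfer takes supports to their inverse images. -/
theorem sectSupp_transHom (U : T.Etale) (x : EtCoh.sect ((EtCoh.pull q).obj F) U) :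
    EtShriek.sectSupp ((EtCoh.pull g).obj F) ((EtCoh.bc t).obj U) ((transHom hw F).hom.app (op U) x) =
      bcFst t U ⁻¹' EtShriek.sectSupp ((EtCoh.pull q).obj F) U x := by
  haveI := isIso_transAdj hw F
  rw [transHom_app, sectSupp_app_iso, sectSupp_unit]

theorem sectSupp_trans (x : EtCoh.sect ((EtCoh.pull q).obj F) (EtCoh.top T)) :
    EtShriek.sectSupp ((EtCoh.pull g).obj F) (EtCoh.top T') (trans hw F x) =
      t ⁻¹' EtShriek.sectSupp ((EtCoh.pull q).obj F) (EtCoh.top T) x := by
  refine (ShriekLib.sectSupp_map _ (EtCore.bcTopIso t).inv _).trans ?_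
  refine (congrArg (Set.preimage (EtCore.bcTopIso t).inv.left) (sectSupp_transHom hw F _ x)).trans ?_
  refine Set.preimage_comp.symm.trans (congrArg (· ⁻¹' _) (funext fun y => ?_))
  refine (Scheme.Hom.comp_apply _ _ _).symm.trans (congrArg (fun k : T' ⟶ T => k y) ?_)
  have hs : (EtCore.bcTopIso t).inv.left ≫ pullback.snd (EtCoh.top T).hom t = 𝟙 T' :=
    MorphismProperty.Over.w (EtCore.bcTopIso t).inv
  have hc := congrArg ((EtCore.bcTopIso t).inv.left ≫ ·) (pullback.condition (f := (EtCoh.top T).hom) (g := t))
  rw [← Category.assoc, ← Category.assoc, hs] at hc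
  exact (Category.comp_id _).symm.trans (hc.trans (Category.id_comp _))

theorem bcTopIso_hom_inv (x : EtCoh.sect ((EtCoh.pull q).obj F) (EtCoh.top T)) :
    (transHom hw F).hom.app (op (EtCoh.top T)) x =
      ((EtCoh.pull g).obj F).obj.map (EtCore.bcTopIso t).hom.op (trans hw F x) := by
  show _ = ((EtCoh.pull g).obj F).obj.map _ (((EtCoh.pull g).obj F).obj.map (EtCore.bcTopIso t).inv.op _)
  rw [← Functor.map_comp_apply, ← op_comp, Iso.hom_inv_id, op_id, CategoryTheory.Functor.map_id]
  rfl

/-- The base change of an étale object lying over an open along a map proper over the open is proper. -/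
theorem isProper_bcFst_of_range {X'' X₀ : Scheme.{u}} (π : X'' ⟶ X₀) [IsProper π] (ι : X₀ ⟶ X) [IsOpenImmersion ι]
    (W : X.Etale) (h : Set.range W.hom ⊆ Set.range ι) : IsProper (bcFst (π ≫ ι) W) := by
  let hW : W.left ⟶ X₀ := IsOpenImmersion.lift ι W.hom h
  have hWι : hW ≫ ι = W.hom := IsOpenImmersion.lift_fac _ _ _
  have sq : IsPullback (bcFst (π ≫ ι) W) (pullback.snd W.hom (π ≫ ι)) hW π := by
    refine IsPullback.of_isLimit' ⟨(cancel_mono ι).1 ?_⟩ (PullbackCone.IsLimit.mk _
      (fun s => pullback.lift s.fst s.snd ?_) (fun s => pullback.lift_fst _ _ _) (fun s => pullback.lift_snd _ _ _)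
      fun s m h₁ h₂ => pullback.hom_ext (h₁.trans (pullback.lift_fst _ _ _).symm) (h₂.trans (pullback.lift_snd _ _ _).symm))
    · rw [Category.assoc, Category.assoc, hWι]; exact pullback.condition
    · rw [← hWι, ← Category.assoc, ← Category.assoc]; exact congrArg (· ≫ ι) s.condition
  exact MorphismProperty.of_isPullback (P := @IsProper) sq.flip ‹_›

end Groth.Agent.ShriekFib
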